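import Mathlib

set_option autoImplicit false

/-!
# A reflective checker for chains of words modulo a subgroup

Words are lists of letter codes; a *fact* is a pair of words `(u, v)` with `N * u = N * v`; a *chain* rewrites a word
step by step, each step either replacing a subword by an equal one (from a table of valid equations), replacing a
prefix by means of an earlier fact, or dropping leading letters that lie in `N`.
-/

namespace Cfsg.Agent.Lib.Helper3.HN

/-- words -/
abbrev Wd := List ℕ

/-- decode a word from its base-8 digits (with a leading digit `1` on top) -/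
def decW : ℕ → ℕ → Wd
  | 0, _ => []
  | f + 1, n => cond (Nat.ble n 1) [] (Nat.mod n 8 :: decW f (Nat.div n 8))

/-- lookup with default -/
def lookD {α : Type} : List α → ℕ → α → α
  | [], _, d => d
  | a :: _, 0, _ => a
  | _ :: l, n + 1, d => lookD l n d

theorem lookD_mem {α : Type} (l : List α) (j : ℕ) (d : α) : lookD l j d ∈ l ∨ lookD l j d = d := by
  induction l generalizing j with
  | nil => right; rfl
  | cons a l ih =>
    cases j with
    | zero => left; simp [lookD]
    | succ j =>
      rcases ih j with h | h
      · left; simp only [lookD]; exact List.mem_cons_of_mem _ h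
      · right; simpa [lookD] using h

/-- decode a pair of words -/
def decP (p : ℕ × ℕ) : Wd × Wd := (decW 256 p.1, decW 256 p.2)

/-- equality test for words -/
def wbeq : Wd → Wd → Bool
  | [], [] => true
  | a :: l, b :: m => and (Nat.beq a b) (wbeq l m)
  | _, _ => false

theorem wbeq_iff (a b : Wd) : wbeq a b = true ↔ a = b := by
  induction a generalizing b with
  | nil => cases b <;> simp [wbeq]
  | cons x l ih =>
    cases b with
    | nil => simp [wbeq]
    | cons y m => simp [wbeq, ih]

/-- replace the subword `l` at position `pos` by `r` -/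
def replAt (cur : Wd) (pos : ℕ) (l r : Wd) : Option Wd :=
  cond (wbeq ((cur.drop pos).take l.length) l) (some (cur.take pos ++ (r ++ cur.drop (pos + l.length)))) none

theorem replAt_some {cur : Wd} {pos : ℕ} {l r cur' : Wd} (h : replAt cur pos l r = some cur') :
    ∃ a b : Wd, cur = a ++ (l ++ b) ∧ cur' = a ++ (r ++ b) := by
  unfold replAt at h
  cases hb : wbeq ((cur.drop pos).take l.length) l with
  | false => rw [hb] at h; simp at h
  | true =>
    rw [hb] at h
    simp only [cond_true, Option.some.injEq] at h
    have e := (wbeq_iff _ _).mp hb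
    refine ⟨cur.take pos, cur.drop (pos + l.length), ?_, h.symm⟩
    have h1 : cur = cur.take pos ++ cur.drop pos := (List.take_append_drop pos cur).symm
    have h2 : cur.drop pos = (cur.drop pos).take l.length ++ (cur.drop pos).drop l.length :=
      (List.take_append_drop _ _).symm
    rw [e, List.drop_drop] at h2
    have e3 : l.length + pos = pos + l.length := Nat.add_comm _ _
    conv_lhs => rw [h1, h2]
    try rw [e3]

/-- all letters of the word are below `5` -/
def allN : Wd → Bool
  | [] => true
  | c :: w => and (Nat.blt c 5) (allN w)

/-- a step of a chain; the code is `type + 4 * rev + 8 * a + 8 * 65536 * b` -/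
def stepLink (relTab nidTab pairTab : ℕ → Wd × Wd) (i : ℕ) (cur : Wd) (code : ℕ) : Option Wd :=
  let ty := Nat.mod code 4
  let rev := Nat.beq (Nat.mod (Nat.div code 4) 2) 1
  let a := Nat.mod (Nat.div code 8) 65536
  let b := Nat.div code 524288
  cond (Nat.beq ty 0)
    (let p := relTab b; replAt cur a (cond rev p.2 p.1) (cond rev p.1 p.2))
    (cond (Nat.beq ty 3)
      (let p := nidTab b; replAt cur a (cond rev p.2 p.1) (cond rev p.1 p.2))
      (cond (Nat.beq ty 1)
        (cond (Nat.blt a i) (let p := pairTab a; replAt cur 0 (cond rev p.2 p.1) (cond rev p.1 p.2)) none)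
        (cond (allN (cur.take a)) (some (cur.drop a)) none)))

/-- run a chain -/
def runChain (relTab nidTab pairTab : ℕ → Wd × Wd) (i : ℕ) : Wd → List ℕ → Option Wd
  | cur, [] => some cur
  | cur, c :: cs =>
    match stepLink relTab nidTab pairTab i cur c with
    | some cur' => runChain relTab nidTab pairTab i cur' cs
    | none => none

/-- check the entry `i` -/
def checkEntry (relTab nidTab pairTab : ℕ → Wd × Wd) (chainTab : ℕ → ℕ × List ℕ) (i : ℕ) : Bool :=
  let p := pairTab i
  let c := chainTab i
  let rev := Nat.beq c.1 1
  match runChain relTab nidTab pairTab i (cond rev p.2 p.1) c.2 with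
  | some w => wbeq w (cond rev p.1 p.2)
  | none => false

/-- check the entries `lo, …, lo + cnt - 1` -/
def checkRange (relTab nidTab pairTab : ℕ → Wd × Wd) (chainTab : ℕ → ℕ × List ℕ) (lo : ℕ) : ℕ → Bool
  | 0 => true
  | cnt + 1 => and (checkEntry relTab nidTab pairTab chainTab (lo + cnt))
      (checkRange relTab nidTab pairTab chainTab lo cnt)

theorem checkRange_iff (relTab nidTab pairTab : ℕ → Wd × Wd) (chainTab : ℕ → ℕ × List ℕ) (lo cnt : ℕ) :
    checkRange relTab nidTab pairTab chainTab lo cnt = true ↔
      ∀ i, lo ≤ i → i < lo + cnt → checkEntry relTab nidTab pairTab chainTab i = true := by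
  induction cnt with
  | zero => simp [checkRange]; intro i h1 h2; omega
  | succ cnt ih =>
    simp only [checkRange, Bool.and_eq_true, ih]
    constructor
    · rintro ⟨h1, h2⟩ i hi hi'
      rcases Nat.lt_or_ge i (lo + cnt) with h | h
      · exact h2 i hi h
      · have : i = lo + cnt := by omega
        rw [this]; exact h1
    · intro h
      exact ⟨h _ (by omega) (by omega), fun i hi hi' => h i hi (by omega)⟩

/-! ### semantics -/

section Sem
variable {G : Type*} [Group G] (γ : ℕ → G) (N : Subgroup G)

/-- the value of a word -/
def ev (w : Wd) : G := (w.map γ).prod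

theorem ev_nil : ev γ [] = 1 := rfl
theorem ev_cons (c : ℕ) (w : Wd) : ev γ (c :: w) = γ c * ev γ w := by simp [ev]
theorem ev_append (u v : Wd) : ev γ (u ++ v) = ev γ u * ev γ v := by simp [ev]

/-- the two words give the same right coset of `N` -/
def Rel (u v : Wd) : Prop := ev γ u * (ev γ v)⁻¹ ∈ N

variable {γ N}

theorem Rel.refl (u : Wd) : Rel γ N u u := by simp [Rel, N.one_mem]
theorem Rel.symm {u v : Wd} (h : Rel γ N u v) : Rel γ N v u := by
  have := N.inv_mem h
  simpa [Rel] using this
theorem Rel.trans {u v w : Wd} (h1 : Rel γ N u v) (h2 : Rel γ N v w) : Rel γ N u w := by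
  have := N.mul_mem h1 h2
  simpa [Rel, mul_assoc] using this
theorem Rel.of_eq {u v : Wd} (h : ev γ u = ev γ v) : Rel γ N u v := by simp [Rel, h, N.one_mem]
theorem Rel.append {u v : Wd} (h : Rel γ N u v) (w : Wd) : Rel γ N (u ++ w) (v ++ w) := by
  unfold Rel at *
  rw [ev_append, ev_append]
  have e : ev γ u * ev γ w * (ev γ v * ev γ w)⁻¹ = ev γ u * (ev γ v)⁻¹ := by group
  rw [e]; exact h

variable (γ N)

theorem ev_mem_of_allN (hN : ∀ c, c < 5 → γ c ∈ N) (w : Wd) (h : allN w = true) : ev γ w ∈ N := by
  induction w with
  | nil => exact N.one_mem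
  | cons c w ih =>
    simp only [allN, Bool.and_eq_true] at h
    rw [ev_cons]
    refine N.mul_mem (hN c ?_) (ih h.2)
    have := h.1
    simpa [Nat.blt_eq] using this

variable {γ N}

theorem rel_replAt {cur cur' l r : Wd} {pos : ℕ} (hlr : ev γ l = ev γ r)
    (h : replAt cur pos l r = some cur') : Rel γ N cur cur' := by
  obtain ⟨a, b, rfl, rfl⟩ := replAt_some h
  apply Rel.of_eq
  rw [ev_append, ev_append, ev_append, ev_append, hlr]

theorem rel_replAt_prefix {cur cur' l r : Wd} (hlr : Rel γ N l r)
    (h : replAt cur 0 l r = some cur') : Rel γ N cur cur' := by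
  unfold replAt at h
  cases hb : wbeq ((cur.drop 0).take l.length) l with
  | false => rw [hb] at h; simp at h
  | true =>
    rw [hb] at h
    simp only [cond_true, Option.some.injEq, List.take_zero, List.nil_append, Nat.zero_add] at h
    have e := (wbeq_iff _ _).mp hb
    rw [List.drop_zero] at e
    have h1 : cur = l ++ cur.drop l.length := by
      conv_lhs => rw [← List.take_append_drop l.length cur, e]
    generalize cur.drop l.length = b at h h1
    rw [← h, h1]
    exact hlr.append _

variable (relTab nidTab pairTab : ℕ → Wd × Wd) (chainTab : ℕ → ℕ × List ℕ)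

theorem rel_stepLink (hN : ∀ c, c < 5 → γ c ∈ N)
    (hrel : ∀ j, ev γ (relTab j).1 = ev γ (relTab j).2)
    (hnid : ∀ j, ev γ (nidTab j).1 = ev γ (nidTab j).2)
    (i : ℕ) (hprev : ∀ j, j < i → Rel γ N (pairTab j).1 (pairTab j).2)
    {cur cur' : Wd} {code : ℕ} (h : stepLink relTab nidTab pairTab i cur code = some cur') :
    Rel γ N cur cur' := by
  unfold stepLink at h
  simp only at h
  cases h0 : Nat.beq (Nat.mod code 4) 0 with
  | true =>
    rw [h0] at h
    simp only [cond_true] at h
    cases hr : Nat.beq (Nat.mod (Nat.div code 4) 2) 1 with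
    | true => rw [hr] at h; exact rel_replAt (hrel _).symm h
    | false => rw [hr] at h; exact rel_replAt (hrel _) h
  | false =>
    rw [h0] at h
    simp only [cond_false] at h
    cases h3 : Nat.beq (Nat.mod code 4) 3 with
    | true =>
      rw [h3] at h
      simp only [cond_true] at h
      cases hr : Nat.beq (Nat.mod (Nat.div code 4) 2) 1 with
      | true => rw [hr] at h; exact rel_replAt (hnid _).symm h
      | false => rw [hr] at h; exact rel_replAt (hnid _) h
    | false =>
      rw [h3] at h
      simp only [cond_false] at h
      cases h1 : Nat.beq (Nat.mod code 4) 1 with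
      | true =>
        rw [h1] at h
        simp only [cond_true] at h
        cases hlt : Nat.blt (Nat.mod (Nat.div code 8) 65536) i with
        | false => rw [hlt] at h; simp at h
        | true =>
          rw [hlt] at h
          simp only [cond_true] at h
          have hj : Nat.mod (Nat.div code 8) 65536 < i := by simpa [Nat.blt_eq] using hlt
          have hp := hprev _ hj
          cases hr : Nat.beq (Nat.mod (Nat.div code 4) 2) 1 with
          | true => rw [hr] at h; exact rel_replAt_prefix hp.symm h
          | false => rw [hr] at h; exact rel_replAt_prefix hp h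
      | false =>
        rw [h1] at h
        simp only [cond_false] at h
        cases ha : allN (cur.take (Nat.mod (Nat.div code 8) 65536)) with
        | false => rw [ha] at h; simp at h
        | true =>
          rw [ha] at h
          simp only [cond_true, Option.some.injEq] at h
          rw [← h]
          have hm := ev_mem_of_allN γ N hN _ ha
          unfold Rel
          have e : ev γ cur = ev γ (cur.take (Nat.mod (Nat.div code 8) 65536)) *
              ev γ (cur.drop (Nat.mod (Nat.div code 8) 65536)) := by
            rw [← ev_append, List.take_append_drop]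
          rw [e]
          simpa using hm

theorem rel_runChain (hN : ∀ c, c < 5 → γ c ∈ N)
    (hrel : ∀ j, ev γ (relTab j).1 = ev γ (relTab j).2)
    (hnid : ∀ j, ev γ (nidTab j).1 = ev γ (nidTab j).2)
    (i : ℕ) (hprev : ∀ j, j < i → Rel γ N (pairTab j).1 (pairTab j).2)
    (cs : List ℕ) : ∀ {cur cur' : Wd}, runChain relTab nidTab pairTab i cur cs = some cur' → Rel γ N cur cur' := by
  induction cs with
  | nil =>
    intro cur cur' h
    simp only [runChain, Option.some.injEq] at h
    rw [h]; exact Rel.refl _
  | cons c cs ih =>
    intro cur cur' h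
    simp only [runChain] at h
    cases hs : stepLink relTab nidTab pairTab i cur c with
    | none => rw [hs] at h; simp at h
    | some w =>
      rw [hs] at h
      exact (rel_stepLink relTab nidTab pairTab hN hrel hnid i hprev hs).trans (ih h)

/-- soundness of the checker -/
theorem rel_of_check (hN : ∀ c, c < 5 → γ c ∈ N)
    (hrel : ∀ j, ev γ (relTab j).1 = ev γ (relTab j).2)
    (hnid : ∀ j, ev γ (nidTab j).1 = ev γ (nidTab j).2)
    (n : ℕ) (hchk : ∀ i, i < n → checkEntry relTab nidTab pairTab chainTab i = true) :
    ∀ i, i < n → Rel γ N (pairTab i).1 (pairTab i).2 := by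
  intro i
  induction i using Nat.strong_induction_on with
  | _ i ih =>
    intro hi
    have hprev : ∀ j, j < i → Rel γ N (pairTab j).1 (pairTab j).2 := fun j hj => ih j hj (by omega)
    have hc := hchk i hi
    unfold checkEntry at hc
    simp only at hc
    cases hrun : runChain relTab nidTab pairTab i
        (cond (Nat.beq (chainTab i).1 1) (pairTab i).2 (pairTab i).1) (chainTab i).2 with
    | none => rw [hrun] at hc; simp at hc
    | some w =>
      rw [hrun] at hc
      simp only at hc
      have hw := (wbeq_iff _ _).mp hc
      have hr := rel_runChain relTab nidTab pairTab hN hrel hnid i hprev _ hrun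
      rw [hw] at hr
      cases hb : Nat.beq (chainTab i).1 1 with
      | true => rw [hb] at hr; exact hr.symm
      | false => rw [hb] at hr; exact hr

end Sem

end Cfsg.Agent.Lib.Helper3.HN
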