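import Cfsg.Prelude.Def_Spor_HN
import Cfsg.Agent.Lib.Helper3.HN.Chain

set_option autoImplicit false
set_option maxRecDepth 100000

/-!
# The letters of `Spor.HN`, the relators used by the chain certificate and their validity
-/

namespace Cfsg.Agent.Lib.Helper3.HN.HNRel

open Cfsg Cfsg.Spor Cfsg.Agent.Lib.Helper3.HN

/-- the relators of `HN` -/
abbrev rels : Set (FreeGroup Spor.HN.Gen) := coxRelators Spor.HN.edges ∪ {r | r ∈ Spor.HN.extra}

/-- the generator `x` -/
noncomputable def gx : Spor.HN := PresentedGroup.mk rels Spor.HN.x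
/-- the generator `y` -/
noncomputable def gy : Spor.HN := PresentedGroup.mk rels Spor.HN.y
/-- the generator `z` -/
noncomputable def gz : Spor.HN := PresentedGroup.mk rels Spor.HN.z
/-- the generator `t` -/
noncomputable def gt : Spor.HN := PresentedGroup.mk rels Spor.HN.t

/-- the letters -/
noncomputable def lt : ℕ → Spor.HN
  | 0 => gx
  | 1 => gx⁻¹
  | 2 => gy
  | 3 => gy⁻¹
  | 4 => gz
  | 5 => gt
  | 6 => gt⁻¹
  | _ => 1

theorem one_of_extra {r : FreeGroup Spor.HN.Gen} (h : r ∈ Spor.HN.extra) :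
    (PresentedGroup.mk rels r : Spor.HN) = 1 :=
  PresentedGroup.one_of_mem (Or.inr h)

theorem ht5 : gt ^ 5 = 1 := by
  have h : Spor.HN.t ^ 5 ∈ Spor.HN.extra := by
    have e : Spor.HN.extra[10]'(by decide) = Spor.HN.t ^ 5 := rfl
    rw [← e]; exact List.getElem_mem _
  have := one_of_extra h
  rwa [map_pow] at this

theorem hxt : gx⁻¹ * gt * gx * gt ^ 2 = 1 := by
  have h : (Spor.HN.x⁻¹ * Spor.HN.t * Spor.HN.x) * (Spor.HN.t ^ 2) ∈ Spor.HN.extra := by
    have e : Spor.HN.extra[11]'(by decide) = (Spor.HN.x⁻¹ * Spor.HN.t * Spor.HN.x) * (Spor.HN.t ^ 2) := rfl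
    rw [← e]; exact List.getElem_mem _
  have := one_of_extra h
  simp only [map_mul, map_pow, map_inv] at this
  exact this

theorem hty : gt⁻¹ * gy⁻¹ * gt * gy = 1 := by
  have h : Spor.HN.t⁻¹ * Spor.HN.y⁻¹ * Spor.HN.t * Spor.HN.y ∈ Spor.HN.extra := by
    have e : Spor.HN.extra[12]'(by decide) = Spor.HN.t⁻¹ * Spor.HN.y⁻¹ * Spor.HN.t * Spor.HN.y := rfl
    rw [← e]; exact List.getElem_mem _
  have := one_of_extra h
  simp only [map_mul, map_pow, map_inv] at this
  exact this

theorem hzt : (gz * gt) ^ 3 = 1 := by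
  have h : (Spor.HN.z * Spor.HN.t) ^ 3 ∈ Spor.HN.extra := by
    have e : Spor.HN.extra[13]'(by decide) = (Spor.HN.z * Spor.HN.t) ^ 3 := rfl
    rw [← e]; exact List.getElem_mem _
  have := one_of_extra h
  simp only [map_mul, map_pow, map_inv] at this
  exact this

theorem hzz : gz * gz = 1 := by
  have h : Spor.HN.z ^ 2 ∈ Spor.HN.extra := by
    have e : Spor.HN.extra[6]'(by decide) = Spor.HN.z ^ 2 := rfl
    rw [← e]; exact List.getElem_mem _
  have := one_of_extra h
  rw [map_pow, pow_two] at this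
  exact this

theorem gz_inv : gz⁻¹ = gz := inv_eq_of_mul_eq_one_right hzz

theorem comm_ty : Commute gt gy := by
  have h := hty
  have : gt * gy = gy * gt := by
    calc gt * gy = gy * gt * (gt⁻¹ * gy⁻¹ * gt * gy) := by group
      _ = gy * gt := by rw [h, mul_one]
  exact this

theorem conj_t : gx⁻¹ * gt * gx = (gt ^ 2)⁻¹ := by
  have h := hxt
  exact eq_inv_of_mul_eq_one_left h

theorem conj_tpow (j : ℕ) : gx⁻¹ * gt ^ j * gx = (gt ^ (2 * j))⁻¹ := by
  have h : gx⁻¹ * gt ^ j * gx = (gx⁻¹ * gt * gx) ^ j := by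
    induction j with
    | zero => simp
    | succ j ih =>
      rw [pow_succ, pow_succ, ← ih]
      group
  rw [h, conj_t, inv_pow, ← pow_mul]

/-! ### words -/

theorem ev_rep5 (j : ℕ) : ev lt (List.replicate j 5) = gt ^ j := by
  induction j with
  | zero => rfl
  | succ j ih => rw [List.replicate_succ, ev_cons, ih, pow_succ']; rfl

theorem ev_rep6 (j : ℕ) : ev lt (List.replicate j 6) = (gt ^ j)⁻¹ := by
  induction j with
  | zero => simp [ev]
  | succ j ih =>
    rw [List.replicate_succ, ev_cons, ih, pow_succ]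
    show gt⁻¹ * (gt ^ j)⁻¹ = _
    group

/-- relators of the first kind -/
def r1 (j k m : ℕ) : Wd := List.replicate j 5 ++ (List.replicate k 5 ++ List.replicate m 6)
/-- relators of the second kind -/
def r2 (j : ℕ) : Wd := 2 :: (List.replicate j 5 ++ (3 :: List.replicate j 6))
/-- relators of the third kind -/
def r3 (j jj : ℕ) : Wd := List.replicate j 5 ++ (0 :: (List.replicate jj 6 ++ [1]))
/-- relators of the fourth kind -/
def rc (j : ℕ) : Wd := List.replicate j 5 ++ List.replicate j 6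

theorem tpow_mod {a b : ℕ} (h : a % 5 = b % 5) : gt ^ a = gt ^ b := by
  rw [← Nat.div_add_mod a 5, ← Nat.div_add_mod b 5, pow_add, pow_add, pow_mul, pow_mul, ht5, one_pow, one_pow, h]

theorem r1_valid (j k m : ℕ) (h : (j + k) % 5 = m % 5) : ev lt (r1 j k m) = 1 := by
  unfold r1
  rw [ev_append, ev_append, ev_rep5, ev_rep5, ev_rep6, ← mul_assoc, ← pow_add, tpow_mod h]
  group

theorem r2_valid (j : ℕ) : ev lt (r2 j) = 1 := by
  unfold r2
  rw [ev_cons, ev_append, ev_cons, ev_rep5, ev_rep6]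
  show gy * (gt ^ j * (gy⁻¹ * (gt ^ j)⁻¹)) = 1
  have h : gt ^ j * gy = gy * gt ^ j := (comm_ty.pow_left j).eq
  calc gy * (gt ^ j * (gy⁻¹ * (gt ^ j)⁻¹)) = (gy * gt ^ j) * gy⁻¹ * (gt ^ j)⁻¹ := by group
    _ = (gt ^ j * gy) * gy⁻¹ * (gt ^ j)⁻¹ := by rw [h]
    _ = 1 := by group

theorem r3_valid (j jj : ℕ) (h : (jj + 2 * j) % 5 = 0) : ev lt (r3 j jj) = 1 := by
  unfold r3
  rw [ev_append, ev_cons, ev_append, ev_rep5, ev_rep6]
  show gt ^ j * (gx * ((gt ^ jj)⁻¹ * ev lt [1])) = 1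
  have e1 : ev lt [1] = gx⁻¹ := by simp [ev, lt]
  rw [e1]
  have h1 := conj_tpow j
  have h2 : gt ^ jj * gt ^ (2 * j) = 1 := by
    rw [← pow_add, tpow_mod (b := 0) (by simpa using h), pow_zero]
  have h3 : (gt ^ (2 * j))⁻¹ = gt ^ jj := by
    rw [inv_eq_iff_eq_inv]
    exact (eq_inv_of_mul_eq_one_right h2)
  rw [h3] at h1
  calc gt ^ j * (gx * ((gt ^ jj)⁻¹ * gx⁻¹)) = gx * (gx⁻¹ * gt ^ j * gx) * (gt ^ jj)⁻¹ * gx⁻¹ := by group
    _ = 1 := by rw [h1]; group

theorem r4_valid : ev lt [4, 5, 4, 5, 4, 5] = 1 := by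
  have h := hzt
  simp only [ev, List.map, List.prod_cons, List.prod_nil, lt, mul_one]
  rw [pow_succ, pow_succ, pow_one] at h
  simpa [mul_assoc] using h

theorem rc_valid (j : ℕ) : ev lt (rc j) = 1 := by
  unfold rc
  rw [ev_append, ev_rep5, ev_rep6]
  group

/-- the relators -/
def relList : List Wd :=
  [r1 1 1 2, r1 1 2 3, r1 1 3 4, r1 2 2 4, r1 2 4 1, r1 3 3 1, r1 3 4 2, r1 4 4 3,
   r2 1, r2 2, r2 3, r2 4, r3 1 3, r3 2 1, r3 3 4, r3 4 2, [4, 5, 4, 5, 4, 5],
   rc 1, rc 2, rc 3, rc 4, List.replicate 5 5, [0, 1], [2, 3], [4, 4]]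

theorem relList_valid : ∀ ρ ∈ relList, ev lt ρ = 1 := by
  intro ρ h
  simp only [relList, List.mem_cons, List.mem_nil_iff, or_false] at h
  rcases h with rfl | rfl | rfl | rfl | rfl | rfl | rfl | rfl | rfl | rfl | rfl | rfl | rfl | rfl | rfl | rfl | rfl |
    rfl | rfl | rfl | rfl | rfl | rfl | rfl | rfl
  · exact r1_valid _ _ _ (by decide)
  · exact r1_valid _ _ _ (by decide)
  · exact r1_valid _ _ _ (by decide)
  · exact r1_valid _ _ _ (by decide)
  · exact r1_valid _ _ _ (by decide)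
  · exact r1_valid _ _ _ (by decide)
  · exact r1_valid _ _ _ (by decide)
  · exact r1_valid _ _ _ (by decide)
  · exact r2_valid _
  · exact r2_valid _
  · exact r2_valid _
  · exact r2_valid _
  · exact r3_valid _ _ (by decide)
  · exact r3_valid _ _ (by decide)
  · exact r3_valid _ _ (by decide)
  · exact r3_valid _ _ (by decide)
  · exact r4_valid
  · exact rc_valid _
  · exact rc_valid _
  · exact rc_valid _
  · exact rc_valid _
  · rw [ev_rep5]; exact ht5
  · simp [ev, lt]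
  · simp [ev, lt]
  · simp [ev, lt, hzz]

/-! ### inverse words and rotations -/

/-- the inverse letter -/
def linv : ℕ → ℕ
  | 0 => 1
  | 1 => 0
  | 2 => 3
  | 3 => 2
  | 5 => 6
  | 6 => 5
  | c => c

theorem lt_linv (c : ℕ) : lt (linv c) = (lt c)⁻¹ := by
  match c with
  | 0 => rfl
  | 1 => simp [linv, lt]
  | 2 => rfl
  | 3 => simp [linv, lt]
  | 4 => simp [linv, lt, gz_inv]
  | 5 => rfl
  | 6 => simp [linv, lt]
  | (n + 7) => simp [linv, lt]

/-- the inverse word -/
def winv (w : Wd) : Wd := (w.map linv).reverse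

theorem ev_winv (w : Wd) : ev lt (winv w) = (ev lt w)⁻¹ := by
  induction w with
  | nil => simp [winv, ev]
  | cons c w ih =>
    have e : winv (c :: w) = winv w ++ [linv c] := by simp [winv]
    rw [e, ev_append, ih, ev_cons, ev_cons, ev_nil, mul_one, lt_linv, mul_inv_rev]

/-- `w` is a rotation of `ρ` -/
def isRot (w ρ : Wd) : Bool := (List.range (ρ.length + 1)).any fun s => wbeq (ρ.drop s ++ ρ.take s) w

theorem ev_of_isRot {w ρ : Wd} (h : isRot w ρ = true) (hρ : ev lt ρ = 1) : ev lt w = 1 := by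
  unfold isRot at h
  rw [List.any_eq_true] at h
  obtain ⟨s, -, hs⟩ := h
  have e := (wbeq_iff _ _).mp hs
  rw [← e, ev_append]
  have h1 : ev lt (ρ.take s) * ev lt (ρ.drop s) = 1 := by
    rw [← ev_append, List.take_append_drop, hρ]
  have h2 : ev lt (ρ.drop s) = (ev lt (ρ.take s))⁻¹ := eq_inv_of_mul_eq_one_right h1
  rw [h2]
  group

/-- the pair is an instance of a relator -/
def pairOK (p : Wd × Wd) : Bool :=
  relList.any fun ρ => isRot (p.1 ++ winv p.2) ρ || isRot (p.1 ++ winv p.2) (winv ρ)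

theorem ev_of_pairOK {p : Wd × Wd} (h : pairOK p = true) : ev lt p.1 = ev lt p.2 := by
  unfold pairOK at h
  rw [List.any_eq_true] at h
  obtain ⟨ρ, hρ, h⟩ := h
  rw [Bool.or_eq_true] at h
  have hv := relList_valid ρ hρ
  have h1 : ev lt (p.1 ++ winv p.2) = 1 := by
    rcases h with h | h
    · exact ev_of_isRot h hv
    · exact ev_of_isRot h (by rw [ev_winv, hv, inv_one])
  rw [ev_append, ev_winv] at h1
  exact mul_inv_eq_one.mp h1

/-- a table of pairs that are instances of relators is valid -/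
theorem relTab_valid_of {relPairs : List (Wd × Wd)} (h : relPairs.all pairOK = true) :
    ∀ j, ev lt (lookD relPairs j ([], [])).1 = ev lt (lookD relPairs j ([], [])).2 := by
  intro j
  rcases lookD_mem relPairs j ([], []) with h' | h'
  · exact ev_of_pairOK ((List.all_eq_true.mp h) _ h')
  · rw [h']

end Cfsg.Agent.Lib.Helper3.HN.HNRel
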