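import Mathlib

set_option autoImplicit false

/-!
# A union of double cosets that is closed under right multiplication by `t` is the whole group

`G = ⟨x, y, z, t⟩`, `N` a subgroup containing `x, y, z`; `x` and `y` normalise `⟨t⟩`. Let `X` be the union of the double
cosets `N r i N`. If for every `i` the double coset `N (r i) N` is covered by sets `N (r i) ρ ⟨x, y⟩` with `(r i) ρ t ^ j ∈ X`
for all `j`, then `X = G`.
-/

namespace Cfsg.Agent.Lib.Helper3.HN.Closure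

variable {G : Type*} [Group G]

theorem all_mem (N : Subgroup G) (x y z t : G) (hxN : x ∈ N) (hyN : y ∈ N) (hzN : z ∈ N)
    (hgen : Subgroup.closure ({x, y, z, t} : Set G) = ⊤) (ht5 : t ^ 5 = 1)
    (hy : ∀ k : ℕ, y * t ^ k = t ^ k * y) (hyi : ∀ k : ℕ, y⁻¹ * t ^ k = t ^ k * y⁻¹)
    (hx : ∀ k : ℕ, x * t ^ k = t ^ (2 * k) * x) (hxi : ∀ k : ℕ, x⁻¹ * t ^ k = t ^ (3 * k) * x⁻¹)
    (m : ℕ) (r : ℕ → G) (hr0 : 0 < m ∧ r 0 = 1)
    (Sg R : ℕ → Set G)
    (hA : ∀ i, i < m → ∀ s ∈ Sg i, r i * s * (r i)⁻¹ ∈ N)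
    (hB : ∀ i, i < m → ∀ ρ ∈ R i, ∀ j, j < 5 →
      ∃ i', i' < m ∧ ∃ n ∈ N, ∃ n' ∈ N, r i * ρ * t ^ j = n * r i' * n')
    (hcov : ∀ i, i < m → ∀ n ∈ N, ∃ s ∈ Subgroup.closure (Sg i), ∃ ρ ∈ R i,
      ∃ u ∈ Subgroup.closure ({x, y} : Set G), n = s * ρ * u) :
    ∀ g : G, ∃ i, i < m ∧ ∃ n ∈ N, ∃ n' ∈ N, g = n * r i * n' := by
  classical
  set X : Set G := {g | ∃ i, i < m ∧ ∃ n ∈ N, ∃ n' ∈ N, g = n * r i * n'} with hX
  change ∀ g : G, g ∈ X
  have hXr : ∀ g ∈ X, ∀ n ∈ N, g * n ∈ X := by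
    rintro g ⟨i, hi, a, ha, b, hb, rfl⟩ n hn
    exact ⟨i, hi, a, ha, b * n, N.mul_mem hb hn, by group⟩
  have hXl : ∀ g ∈ X, ∀ n ∈ N, n * g ∈ X := by
    rintro g ⟨i, hi, a, ha, b, hb, rfl⟩ n hn
    exact ⟨i, hi, n * a, N.mul_mem hn ha, b, hb, by group⟩
  set Y : Set G := {g | ∀ k : ℕ, g * t ^ k ∈ X} with hY
  have hYl : ∀ g ∈ Y, ∀ n ∈ N, n * g ∈ Y := by
    intro g hg n hn k
    rw [mul_assoc]
    exact hXl _ (hg k) n hn
  have hYt : ∀ g ∈ Y, g * t ∈ Y := by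
    intro g hg k
    rw [mul_assoc, ← pow_succ']
    exact hg _
  have hYx : ∀ g ∈ Y, g * x ∈ Y := by
    intro g hg k
    rw [mul_assoc, hx k, ← mul_assoc]
    exact hXr _ (hg _) x hxN
  have hYxi : ∀ g ∈ Y, g * x⁻¹ ∈ Y := by
    intro g hg k
    rw [mul_assoc, hxi k, ← mul_assoc]
    exact hXr _ (hg _) _ (N.inv_mem hxN)
  have hYy : ∀ g ∈ Y, g * y ∈ Y := by
    intro g hg k
    rw [mul_assoc, hy k, ← mul_assoc]
    exact hXr _ (hg _) y hyN
  have hYyi : ∀ g ∈ Y, g * y⁻¹ ∈ Y := by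
    intro g hg k
    rw [mul_assoc, hyi k, ← mul_assoc]
    exact hXr _ (hg _) _ (N.inv_mem hyN)
  -- `Y` is closed under right multiplication by `⟨x, y⟩`
  let K : Subgroup G :=
    { carrier := {u | (∀ g ∈ Y, g * u ∈ Y) ∧ (∀ g ∈ Y, g * u⁻¹ ∈ Y)}
      mul_mem' := by
        rintro a b ⟨ha, ha'⟩ ⟨hb, hb'⟩
        refine ⟨fun g hg => ?_, fun g hg => ?_⟩
        · rw [← mul_assoc]; exact hb _ (ha g hg)
        · rw [mul_inv_rev, ← mul_assoc]; exact ha' _ (hb' g hg)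
      one_mem' := ⟨fun g hg => by simpa using hg, fun g hg => by simpa using hg⟩
      inv_mem' := by
        rintro a ⟨ha, ha'⟩
        exact ⟨ha', fun g hg => by simpa using ha g hg⟩ }
  have hKU : Subgroup.closure ({x, y} : Set G) ≤ K := by
    rw [Subgroup.closure_le]
    rintro u hu
    rcases hu with rfl | rfl
    · exact ⟨hYx, hYxi⟩
    · exact ⟨hYy, hYyi⟩
  have hYU : ∀ g ∈ Y, ∀ u ∈ Subgroup.closure ({x, y} : Set G), g * u ∈ Y :=
    fun g hg u hu => (hKU hu).1 g hg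
  have htk : ∀ k : ℕ, t ^ k = t ^ (k % 5) := by
    intro k
    conv_lhs => rw [← Nat.div_add_mod k 5, pow_add, pow_mul, ht5, one_pow, one_mul]
  -- the representatives
  have hrep : ∀ i, i < m → ∀ ρ ∈ R i, r i * ρ ∈ Y := by
    intro i hi ρ hρ k
    rw [htk k]
    obtain ⟨i', hi', n, hn, n', hn', e⟩ := hB i hi ρ hρ (k % 5) (Nat.mod_lt _ (by norm_num))
    exact ⟨i', hi', n, hn, n', hn', e⟩
  -- conjugation of the generators
  have hconj : ∀ i, i < m → ∀ s ∈ Subgroup.closure (Sg i), r i * s * (r i)⁻¹ ∈ N := by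
    intro i hi s hs
    induction hs using Subgroup.closure_induction with
    | mem s hs => exact hA i hi s hs
    | one => simp [N.one_mem]
    | mul a b _ _ ha hb =>
      have e : r i * (a * b) * (r i)⁻¹ = (r i * a * (r i)⁻¹) * (r i * b * (r i)⁻¹) := by group
      rw [e]; exact N.mul_mem ha hb
    | inv a _ ha =>
      have e : r i * a⁻¹ * (r i)⁻¹ = (r i * a * (r i)⁻¹)⁻¹ := by group
      rw [e]; exact N.inv_mem ha
  have hrN : ∀ i, i < m → ∀ n ∈ N, r i * n ∈ Y := by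
    intro i hi n hn
    obtain ⟨s, hs, ρ, hρ, u, hu, rfl⟩ := hcov i hi n hn
    have e : r i * (s * ρ * u) = (r i * s * (r i)⁻¹) * (r i * ρ) * u := by group
    rw [e]
    exact hYU _ (hYl _ (hrep i hi ρ hρ) _ (hconj i hi s hs)) u hu
  have hXY : ∀ g ∈ X, g ∈ Y := by
    rintro g ⟨i, hi, a, ha, b, hb, rfl⟩
    rw [mul_assoc]
    exact hYl _ (hrN i hi b hb) a ha
  have hXt : ∀ g ∈ X, g * t ∈ X := by
    intro g hg
    have := hXY g hg 1
    rwa [pow_one] at this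
  have hXti : ∀ g ∈ X, g * t⁻¹ ∈ X := by
    intro g hg
    have h4 : t⁻¹ = t ^ 4 := by
      rw [inv_eq_iff_mul_eq_one, ← pow_succ', ht5]
    rw [h4]
    exact hXY g hg 4
  have h1 : (1 : G) ∈ X := ⟨0, hr0.1, 1, N.one_mem, 1, N.one_mem, by rw [hr0.2]; group⟩
  intro g
  have hg : g ∈ Subgroup.closure ({x, y, z, t} : Set G) := by rw [hgen]; trivial
  induction hg using Subgroup.closure_induction_right with
  | one => exact h1
  | mul_right a b _ hb ha =>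
    rcases hb with rfl | rfl | rfl | rfl
    · exact hXr _ ha _ hxN
    · exact hXr _ ha _ hyN
    · exact hXr _ ha _ hzN
    · exact hXt _ ha
  | mul_inv_cancel a b _ hb ha =>
    rcases hb with rfl | rfl | rfl | rfl
    · exact hXr _ ha _ (N.inv_mem hxN)
    · exact hXr _ ha _ (N.inv_mem hyN)
    · exact hXr _ ha _ (N.inv_mem hzN)
    · exact hXti _ ha

end Cfsg.Agent.Lib.Helper3.HN.Closure
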