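import Cfsg.Agent.Lib.Helper3.Cover.Lower
import Cfsg.Agent.Lib.Helper14.HNx.P0Link
import Cfsg.Agent.Lib.Helper3.HN.Chain

set_option autoImplicit false
set_option maxRecDepth 100000

/-!
# Words in the generators of `P0 = ⟨x, y, z | …⟩`
-/

namespace Cfsg.Agent.Lib.Helper3.HN.P0W

open Cfsg Cfsg.Agent.Lib.Helper3.Cover
open Cfsg.Agent.Lib.Helper28.TC2Upper Cfsg.Agent.Lib.Helper28.TC2Lower Cfsg.Agent.Lib.Helper28.TC2Glue
open Cfsg.Agent.Lib.Helper14.HNx
open Cfsg.Agent.Lib.Helper3.HN

/-- the group `⟨x, y, z | the first ten relators of HN⟩` (as in `Cfsg.Agent.Lib.Helper14.HNx.Main`) -/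
abbrev P0 : Type := PresentedGroup (relSet P0Def.relWords)

/-- the letters of `P0` -/
def toL : ℕ → P0Def.Gen × Bool
  | 0 => (.x, true)
  | 1 => (.x, false)
  | 2 => (.y, true)
  | 3 => (.y, false)
  | _ => (.z, true)

/-- the element of `P0` given by a word -/
noncomputable def p0 (w : Wd) : P0 := PresentedGroup.mk _ (FreeGroup.mk (w.map toL))

theorem p0_nil : p0 [] = 1 := rfl

theorem p0_append (u v : Wd) : p0 (u ++ v) = p0 u * p0 v := by
  unfold p0
  rw [List.map_append, ← FreeGroup.mul_mk, map_mul]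

theorem p0_cons (c : ℕ) (w : Wd) : p0 (c :: w) = p0 [c] * p0 w := p0_append [c] w

theorem lw_toL {c : ℕ} (h : c < 5) : P0Link.lw (toL c) = c := by
  interval_cases c <;> rfl

theorem map_lw_toL (w : Wd) (h : allN w = true) : (w.map toL).map P0Link.lw = w := by
  induction w with
  | nil => rfl
  | cons c w ih =>
    simp only [allN, Bool.and_eq_true] at h
    have hc : c < 5 := by simpa [Nat.blt_eq] using h.1
    simp only [List.map_cons, lw_toL hc, ih h.2]

theorem pathOf_toL (w : Wd) (h : allN w = true) : pathOf P0Link.lw (w.map toL) = w.reverse := by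
  unfold pathOf
  rw [map_lw_toL w h]

theorem allN_lt {w : Wd} (h : allN w = true) : ∀ c ∈ w, c < 5 := by
  induction w with
  | nil => intro c hc; simp at hc
  | cons a w ih =>
    simp only [allN, Bool.and_eq_true] at h
    intro c hc
    rcases List.mem_cons.mp hc with rfl | hc
    · simpa [Nat.blt_eq] using h.1
    · exact ih h.2 c hc


end Cfsg.Agent.Lib.Helper3.HN.P0W
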