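import Cfsg.Agent.Lib.Helper14.HNx.P0MainU
import Cfsg.Agent.Lib.Helper3.HN.P0W

set_option autoImplicit false
set_option maxRecDepth 100000
set_option linter.unusedVariables false
set_option linter.constructorNameAsVariable false
set_option exponentiation.threshold 400

/-!
# The action of `P0 = ⟨x, y, z | …⟩` on the 352 cosets of `⟨x, y⟩` and coverings of `P0` by double cosets
-/

namespace Cfsg.Agent.Lib.Helper3.HN.Cover352

open Cfsg Cfsg.Agent.Lib.Helper3.Cover
open Cfsg.Agent.Lib.Helper28.TC2Upper Cfsg.Agent.Lib.Helper28.TC2Lower Cfsg.Agent.Lib.Helper28.TC2Glue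
open Cfsg.Agent.Lib.Helper14.HNx
open Cfsg.Agent.Lib.Helper3.HN Cfsg.Agent.Lib.Helper3.HN.P0W

/-- the table -/
abbrev T : Table := P0Table.table

theorem hinvOK : T.invOK = true := by decide +kernel
theorem hpermOK : T.permOK 0 T.n = true := by decide +kernel
theorem hT : T.OK := Table.ok_of_checks T hinvOK hpermOK
theorem hrelOK : T.relOK P0Table.relPaths 0 352 = true := by decide +kernel
theorem hrelT : ∀ L ∈ P0Link.relWords, ∀ p, p < T.n → T.walkT (pathOf P0Link.lw L) p = p := by
  intro L hL p hp
  exact (Table.relOK_iff P0Table.relPaths 0 352).mp hrelOK p (Nat.zero_le _) (by have : p < 352 := hp; omega) _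
    (P0Link.hrelmem L hL)
theorem hsubOK : T.subOK P0Table.subPaths = true := by decide +kernel
theorem hsubT : ∀ L ∈ P0Link.subWords, T.walkT (pathOf P0Link.lw L) 0 = 0 :=
  fun L hL => (Table.subOK_iff P0Table.subPaths).mp hsubOK _ (P0Link.hsubmem L hL)
theorem htree : T.treeOK = true := by decide +kernel

theorem hn : 0 < T.n := by decide

/-- the subgroup `⟨x, y⟩` of `P0` -/
noncomputable def U0 : Subgroup P0 :=
  (Subgroup.closure P0Link.S).map (PresentedGroup.mk (relSet P0Def.relWords))

/-- the action on 352 points, given by walks, in which the stabiliser of the point `0` is `⟨x, y⟩` -/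
theorem rep352 : ∃ φ : P0 →* Equiv.Perm (Fin T.n),
    (∀ (w : Wd), allN w = true → ∀ p : Fin T.n, (φ (p0 w) p).val = T.walkT w.reverse p.val) ∧
    (∀ g : P0, φ g ⟨0, hn⟩ = ⟨0, hn⟩ → g ∈ U0) := by
  have key : ∃ φ : P0 →* Equiv.Perm (Fin T.n),
      (∀ x, φ (PresentedGroup.of x) = Table.sigma hT (P0Link.lw (x, true))) ∧
      ∃ f : P0 ⧸ U0 → Fin T.n,
        Function.Bijective f ∧ (∀ g q, f (g • q) = φ g (f q)) ∧ f (QuotientGroup.mk 1) = ⟨0, hn⟩ :=
    (index_eq P0Link.link P0MainU.hchk P0MainU.hfin P0MainU.hcount hT hn hrelT hsubT htree).2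
  obtain ⟨φ, hφof, f, hf, hfs, hf1⟩ := key
  refine ⟨φ, ?_, ?_⟩
  · intro w hw p
    have hσ : ∀ x b, Table.sigma hT (P0Link.lw (x, b)) =
        cond b (Table.sigma hT (P0Link.lw (x, true))) (Table.sigma hT (P0Link.lw (x, true)))⁻¹ := by
      intro x b
      cases b with
      | true => rfl
      | false =>
        show Table.sigma hT (P0Link.lw (x, false)) = (Table.sigma hT (P0Link.lw (x, true)))⁻¹
        rw [P0Link.link.lwinv, ← P0Link.link.Tinv, Table.sigma_inv hT (by rw [P0Link.link.Tk]; exact P0Link.link.lwk _)]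
    have hlt : ∀ L : List (P0Def.Gen × Bool), ∀ l ∈ pathOf P0Link.lw L, l < T.k := by
      intro L l hl
      unfold pathOf at hl
      rw [List.mem_reverse, List.mem_map] at hl
      obtain ⟨xb, _, rfl⟩ := hl
      rw [P0Link.link.Tk]; exact P0Link.link.lwk _
    have hcomp : φ.comp (PresentedGroup.mk (relSet P0Def.relWords)) =
        FreeGroup.lift (fun x => Table.sigma hT (P0Link.lw (x, true))) := by
      apply FreeGroup.ext_hom
      intro x
      rw [FreeGroup.lift_apply_of]
      exact hφof x
    have h1 : φ (p0 w) = pathProd (Table.sigma hT) (pathOf P0Link.lw (w.map toL)) := by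
      rw [← lift_mk_eq_pathProd (fun x => Table.sigma hT (P0Link.lw (x, true))) P0Link.lw _ hσ, ← hcomp]
      rfl
    rw [h1, Table.pathProd_sigma_apply hT _ (hlt _), pathOf_toL w hw]
  · intro g hg
    have h1 : f ((g : P0) • (QuotientGroup.mk 1 : P0 ⧸ _)) = f (QuotientGroup.mk 1) := by
      rw [hfs, hf1, hg]
    have h2 := hf.1 h1
    have h3 : (QuotientGroup.mk (g * 1) : P0 ⧸ U0) = QuotientGroup.mk 1 := h2
    rw [mul_one] at h3
    have h4 := QuotientGroup.eq.mp h3
    rw [mul_one] at h4
    have := Subgroup.inv_mem _ h4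
    rw [inv_inv] at this
    exact this

/-! ### closure of a set of points under paths -/

/-- add to the mask `m` the images of the point `p` under the paths -/
noncomputable def addImgs : List (List ℕ) → ℕ → ℕ → ℕ
  | [], _, m => m
  | s :: ss, p, m => addImgs ss p (Nat.lor m (Nat.shiftLeft 1 (T.walkT s p)))

/-- add to the mask `m` the images of the points `p < cnt` of the mask `front` -/
noncomputable def sweep (paths : List (List ℕ)) (front : ℕ) : ℕ → ℕ → ℕ
  | 0, m => m
  | p + 1, m => sweep paths front p (cond (Nat.testBit front p) (addImgs paths p m) m)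

/-- closure in `r` rounds -/
noncomputable def closeN (paths : List (List ℕ)) : ℕ → ℕ → ℕ → ℕ
  | 0, all, _ => all
  | r + 1, all, front => closeN paths r (sweep paths front T.n all) (Nat.xor (sweep paths front T.n all) all)

theorem testBit_lor_shift {m q p : ℕ} (h : Nat.testBit (Nat.lor m (Nat.shiftLeft 1 q)) p = true) :
    Nat.testBit m p = true ∨ p = q := by
  have e : Nat.lor m (Nat.shiftLeft 1 q) = m ||| (1 <<< q) := rfl
  rw [e, Nat.testBit_or, Bool.or_eq_true] at h
  rcases h with h | h
  · exact Or.inl h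
  · right
    rw [Nat.one_shiftLeft, Nat.testBit_two_pow] at h
    exact (of_decide_eq_true h).symm

section Inv
variable (Good : ℕ → Prop)

theorem inv_addImgs (paths : List (List ℕ)) (p : ℕ) (hp : ∀ s ∈ paths, Good (T.walkT s p)) :
    ∀ m, (∀ q, Nat.testBit m q = true → Good q) → ∀ q, Nat.testBit (addImgs paths p m) q = true → Good q := by
  induction paths with
  | nil => intro m hm q hq; exact hm q hq
  | cons s ss ih =>
    intro m hm q hq
    simp only [addImgs] at hq
    refine ih (fun s' hs' => hp s' (List.mem_cons_of_mem _ hs')) _ ?_ q hq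
    intro q' hq'
    rcases testBit_lor_shift hq' with h | h
    · exact hm q' h
    · rw [h]; exact hp s List.mem_cons_self

theorem inv_sweep (paths : List (List ℕ)) (hpaths : ∀ s ∈ paths, ∀ p, Good p → Good (T.walkT s p))
    (front : ℕ) (hf : ∀ q, Nat.testBit front q = true → Good q) :
    ∀ cnt m, (∀ q, Nat.testBit m q = true → Good q) → ∀ q, Nat.testBit (sweep paths front cnt m) q = true → Good q := by
  intro cnt
  induction cnt with
  | zero => intro m hm q hq; exact hm q hq
  | succ p ih =>
    intro m hm q hq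
    simp only [sweep] at hq
    refine ih _ ?_ q hq
    cases hb : Nat.testBit front p with
    | false => simpa using hm
    | true =>
      simp only [cond_true]
      exact inv_addImgs Good paths p (fun s hs => hpaths s hs p (hf p hb)) m hm

theorem inv_closeN (paths : List (List ℕ)) (hpaths : ∀ s ∈ paths, ∀ p, Good p → Good (T.walkT s p)) :
    ∀ r all front, (∀ q, Nat.testBit all q = true → Good q) → (∀ q, Nat.testBit front q = true → Good q) →
      ∀ q, Nat.testBit (closeN paths r all front) q = true → Good q := by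
  intro r
  induction r with
  | zero => intro all front ha hf q hq; exact ha q hq
  | succ r ih =>
    intro all front ha hf q hq
    simp only [closeN] at hq
    have h1 := inv_sweep Good paths hpaths front hf T.n all ha
    refine ih _ _ h1 ?_ q hq
    intro q' hq'
    have e : Nat.xor (sweep paths front T.n all) all = (sweep paths front T.n all) ^^^ all := rfl
    rw [e, Nat.testBit_xor] at hq'
    by_cases hx : Nat.testBit (sweep paths front T.n all) q' = true
    · exact h1 q' hx
    · have : Nat.testBit all q' = true := by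
        rw [Bool.not_eq_true] at hx
        rw [hx] at hq'
        simpa using hq'
      exact ha q' this

end Inv

/-- all words are words in `x, y, z` -/
def allNs : List Wd → Bool
  | [] => true
  | w :: ws => and (allN w) (allNs ws)

theorem allNs_iff (ws : List Wd) : allNs ws = true ↔ ∀ w ∈ ws, allN w = true := by
  induction ws with
  | nil => simp [allNs]
  | cons w ws ih => simp [allNs, ih]

/-- the double cosets `⟨gens⟩ r ⟨x, y⟩`, for `r` in `reps`, cover `P0` -/
noncomputable def coverOK (gens reps : List Wd) : Bool :=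
  and (and (allNs gens) (allNs reps))
    (Nat.beq (closeN (gens.map List.reverse) 64 (addImgs (reps.map List.reverse) 0 0)
      (addImgs (reps.map List.reverse) 0 0)) (Nat.pred (Nat.pow 2 352)))

theorem cover {gens reps : List Wd} (h : coverOK gens reps = true) (a : P0) :
    ∃ s ∈ Subgroup.closure {g : P0 | ∃ w ∈ gens, g = p0 w}, ∃ r ∈ reps, ∃ u ∈ U0, a = s * p0 r * u := by
  unfold coverOK at h
  simp only [Bool.and_eq_true, allNs_iff] at h
  obtain ⟨⟨hg, hr⟩, hc⟩ := h
  have hc' := Nat.eq_of_beq_eq_true hc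
  obtain ⟨φ, hφ, hst⟩ := rep352
  let Good : ℕ → Prop := fun p => ∃ s ∈ Subgroup.closure {g : P0 | ∃ w ∈ gens, g = p0 w}, ∃ r ∈ reps,
    (φ (s * p0 r) ⟨0, hn⟩).val = p
  have hseed : ∀ q, Nat.testBit (addImgs (reps.map List.reverse) 0 0) q = true → Good q := by
    refine inv_addImgs Good _ 0 ?_ 0 (fun q hq => by simp at hq)
    intro s hs
    obtain ⟨r, hrm, rfl⟩ := List.mem_map.mp hs
    refine ⟨1, Subgroup.one_mem _, r, hrm, ?_⟩
    rw [one_mul, hφ r (hr r hrm)]
  have hpaths : ∀ s ∈ gens.map List.reverse, ∀ p, Good p → Good (T.walkT s p) := by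
    intro s hs p hp
    obtain ⟨w, hwm, rfl⟩ := List.mem_map.mp hs
    obtain ⟨s0, hs0, r, hrm, hp⟩ := hp
    refine ⟨p0 w * s0, Subgroup.mul_mem _ (Subgroup.subset_closure ⟨w, hwm, rfl⟩) hs0, r, hrm, ?_⟩
    rw [mul_assoc, map_mul, Equiv.Perm.mul_apply, hφ w (hg w hwm), hp]
  have hall := inv_closeN Good _ hpaths 64 _ _ hseed hseed
  rw [hc'] at hall
  have hp : (φ a ⟨0, hn⟩).val < 352 := (φ a ⟨0, hn⟩).2
  have hbit : Nat.testBit (Nat.pred (Nat.pow 2 352)) (φ a ⟨0, hn⟩).val = true := by
    have e : Nat.pred (Nat.pow 2 352) = 2 ^ 352 - 1 := rfl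
    rw [e, Nat.testBit_two_pow_sub_one]
    exact decide_eq_true hp
  obtain ⟨s, hs, r, hrm, hval⟩ := hall _ hbit
  refine ⟨s, hs, r, hrm, (s * p0 r)⁻¹ * a, ?_, by group⟩
  apply hst
  rw [map_mul, Equiv.Perm.mul_apply, map_inv]
  have : φ a ⟨0, hn⟩ = φ (s * p0 r) ⟨0, hn⟩ := Fin.ext hval.symm
  rw [this]
  exact Equiv.symm_apply_apply _ _

end Cfsg.Agent.Lib.Helper3.HN.Cover352
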