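import Cfsg.Agent.Lib.Helper3.HN.Tabs
set_option autoImplicit false
set_option maxRecDepth 100000

namespace Cfsg.Agent.Lib.Helper3.HN.FinalData
open Cfsg.Agent.Lib.Helper3.HN Cfsg.Agent.Lib.Helper3.HN.Tabs

/-- the representatives of the double cosets -/
def roots : List Wd := [[], [5], [5, 0, 0, 4, 5], [5, 4, 2, 1, 5], [5, 0, 4, 2, 1, 2, 4, 5], [5, 0, 4, 2, 4, 3, 3, 0, 4, 5], [5, 0, 0, 4, 5, 0, 0, 2, 4, 5], [5, 0, 4, 2, 1, 2, 4, 5, 2, 0, 4, 3, 4, 3, 0, 2, 2, 2, 4, 5], [5, 0, 0, 4, 5, 0, 0, 2, 4, 5, 1, 3, 4, 5]]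

/-- generators of the stabilisers: orbit, index of the fact, word -/
def gensData : List (ℕ × ℕ × Wd) := [(1, 11, [2]), (1, 79, [1, 2, 0]), (2, 238, [3, 0, 2, 1, 3]), (2, 431, [2, 0, 2, 2, 1, 2]), (2, 679, [2, 0, 2, 0, 3, 1, 3, 1]), (2, 1000, [0, 4, 1, 1]), (3, 241, [2, 2, 2]), (3, 435, [3, 0, 2, 2, 1]), (3, 454, [2, 0, 2, 2, 2, 1, 3]), (3, 671, [0, 3, 0, 0, 2, 1]), (3, 1004, [0, 3, 0, 4, 1, 2, 1]), (3, 4040, [0, 2, 2, 0, 4, 2, 2, 2, 4, 3, 3, 3, 4, 1, 3, 3, 1]), (4, 459, [2, 0, 2, 2, 1, 2]), (4, 838, [3, 3, 0, 2, 2, 1, 3, 3]), (4, 1013, [0, 2, 0, 2, 2, 1, 2, 1]), (4, 1434, [2, 0, 3, 1, 2, 4, 3, 1, 2, 1, 3]), (4, 4461, [2, 1, 3, 3, 4, 2, 2, 2, 4, 2, 2, 0, 3]), (5, 868, [3, 0, 3, 0, 3, 1, 3, 1]), (5, 1521, [0, 3, 0, 3, 0, 2, 2, 1, 2, 2, 1, 2, 1]), (5,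 1533, [0, 3, 3, 0, 3, 0, 2, 2, 1, 2, 1, 2, 1]), (5, 6537, [2, 0, 3, 0, 2, 2, 0, 4, 3, 3, 4, 2, 4, 2, 1, 3, 3, 1, 2, 1, 3, 1]), (6, 897, [2, 1, 3, 3, 0, 2, 0, 2, 1]), (6, 904, [3, 1, 3, 0, 3, 0, 3, 1]), (6, 1234, [0, 2, 0, 2, 2, 2, 1, 3, 1]), (6, 4127, [4, 3, 3, 0, 3, 0, 2, 2, 2, 1, 3, 1, 3, 4]), (6, 5669, [0, 3, 3, 4, 3, 3, 4, 3, 3, 4, 3, 1, 3, 3, 4, 3, 3, 1, 3, 1, 2, 1, 2, 1, 3, 3, 4, 1]), (7, 5175, [2, 2, 2, 0, 2, 2, 2, 1, 2, 0, 2, 2, 0, 3, 1, 2, 2, 1, 2]), (7, 6024, [2, 0, 2, 2, 2, 0, 3, 3, 0, 2, 2, 0, 3, 3, 3, 1, 2, 1, 3, 3, 1, 3, 1]), (7, 6031, [2, 2, 2, 0, 3, 0, 3, 0, 2, 0, 2, 2, 2, 4, 3, 3, 3, 0, 3, 1, 2, 1, 2, 1, 3, 3, 3]), (7, 6559, [3, 0, 2, 2, 0, 2, 0, 2, 0, 3, 0, 3, 3, 1, 4, 2, 2, 1, 2, 1, 3, 1, 3, 1, 3, 3, 1, 2]), (7, 6984, [0, 3, 3, 0,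 3, 0, 3, 0, 2, 2, 2, 4, 0, 3, 1, 3, 1, 3, 3, 3, 1, 3]), (8, 2958, [3, 0, 3, 0, 3, 0, 3, 3, 0, 2, 1, 3, 1, 2, 1, 2, 2, 1, 2]), (8, 4283, [3, 0, 3, 0, 3, 3, 0, 3, 0, 2, 0, 2, 2, 1, 2, 1, 3, 1, 3, 3, 1, 3, 1, 3, 3]), (8, 4286, [3, 3, 0, 3, 3, 0, 2, 0, 3, 3, 1, 3, 1, 2, 1, 2]), (8, 6337, [0, 3, 3, 0, 3, 4, 2, 1, 2, 2, 1]), (8, 6355, [2, 0, 3]), (8, 6760, [0, 4]), (8, 7160, [0, 2, 2, 0, 3, 4, 3, 4, 2, 4, 2, 1, 3, 3, 1]), (8, 7198, [0, 2, 2, 0, 2, 0, 2, 0, 3, 0, 4, 2, 2, 1, 2, 2, 1, 2, 2])]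

/-- representatives: orbit, word, and for `j = 1, …, 4` the index of the fact and the orbit of the image -/
def repsData : List (ℕ × Wd × List (ℕ × ℕ)) := [(0, [], [(0, 1), (16, 1), (14, 1), (81, 1)]), (1, [], [(74, 1), (75, 1), (219, 1), (1, 0)]), (1, [4], [(223, 1), (415, 2), (85, 3), (88, 2)]), (1, [0, 4, 2, 1, 2, 4, 2], [(34, 4), (5232, 2), (5235, 2), (437, 4)]), (2, [0, 0], [(89, 1), (418, 1), (665, 2), (224, 3)]), (3, [0, 3, 0], [(227, 1), (717, 2), (421, 2), (669, 1)]), (1, [4, 2, 2, 4, 3, 4, 3], [(1489, 5), (862, 5), (1491, 5), (865, 5)]), (2, [2, 0, 2, 4, 2], [(5617, 2), (5615, 4), (5233, 1), (5614, 4)]), (2, [0, 2, 2, 2, 4], [(2163, 4), (4845, 2), (4377, 6), (4846, 6)]), (4, [0, 2, 0], [(484, 1), (814, 4), (5619, 2), (5620, 2)]), (4, [2,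 2, 2, 4, 2, 2], [(3124, 2), (4484, 6), (3943, 6), (4469, 2)]), (4, [0, 3, 3, 0, 3, 0, 2, 0, 2, 2, 4], [(3005, 3), (3501, 4), (3502, 6), (3503, 6)]), (3, [0, 2, 0, 2, 4], [(3095, 4), (3108, 6), (3110, 6), (3006, 4)]), (5, [2, 0, 3, 1], [(1829, 5), (1177, 5), (1830, 5), (859, 1)]), (5, [0, 2, 0, 3, 1, 4, 2, 2], [(6751, 4), (5784, 4), (6752, 5), (6560, 6)]), (4, [0, 3, 3, 4, 3, 4, 3, 4, 2, 2, 4, 2, 0, 2], [(6521, 5), (6018, 6), (6522, 5), (6270, 4)]), (5, [3, 3, 0, 4, 3, 0, 2, 2, 2], [(6746, 2), (6872, 5), (6873, 6), (6878, 6)]), (2, [2, 2, 2, 0, 3, 0, 3, 4, 3, 4, 2, 0], [(6725, 6), (5996, 5), (6717, 5), (6722, 6)]), (6, [0, 2, 2, 0, 2, 2, 0, 2, 0, 3, 3, 1], [(4915, 2), (3942, 4), (3534, 2), (4936, 6)]), (6, [0, 2, 2, 0, 3, 0, 3, 1, 2, 2, 4], [(3637, 4),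 (3638, 4), (3639, 6), (3100, 3)]), (4, [0, 2, 2, 4, 2, 2, 0, 3, 3, 4, 3, 1, 4, 2], [(7019, 7), (7067, 6), (6540, 6), (7093, 7)]), (6, [2, 2, 0, 2, 0, 3, 0, 2, 2, 0, 3, 3, 0, 4], [(6627, 5), (5847, 4), (6273, 4), (6382, 5)]), (6, [0, 2, 2, 2, 0, 3, 3, 0, 2, 4], [(6879, 5), (6880, 5), (6881, 6), (6733, 2)]), (5, [3, 4, 3, 3, 4, 3, 3, 0, 3, 1], [(6915, 5), (7030, 6), (7106, 7), (7114, 6)]), (6, [2, 0, 2, 2, 4, 2, 2, 0, 4, 3, 4, 2, 2, 0, 3], [(7109, 6), (7110, 5), (7108, 7), (6890, 5)]), (6, [3, 0, 3, 3, 4, 2, 2, 4, 2, 0, 3, 4, 3, 3, 0], [(7038, 7), (7036, 7), (6957, 6), (6838, 4)]), (6, [0, 3, 4, 2, 0], [(5681, 6), (6103, 8), (6102, 6), (5814, 6)]), (6, [0, 2, 4, 2, 0, 2, 2, 2, 0, 2, 2, 0, 4], [(7174, 6), (7153, 6), (7178, 6), (7181, 6)]), (7, [4, 3, 3,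 0, 2, 2, 0, 3, 0, 3], [(7112, 6), (7057, 6), (7123, 7), (7095, 4)]), (7, [0, 2, 0, 4, 3, 0, 3, 4, 3, 4, 3, 0, 2], [(7132, 6), (7141, 5), (7087, 5), (7146, 6)]), (7, [2, 0, 3, 0, 3, 3, 0, 3, 4, 3, 1, 4, 2, 2, 2], [(7192, 7), (7202, 7), (7201, 7), (7204, 7)]), (8, [0, 2, 0, 3], [(6231, 6), (6344, 6), (6346, 6), (6422, 6)]), (8, [0, 3, 0, 3, 0, 3, 3, 0, 4], [(6708, 8), (6870, 8), (6871, 8), (6709, 8)])]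

end Cfsg.Agent.Lib.Helper3.HN.FinalData
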