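import Cfsg.Agent.Lib.Helper3.HN.Chain
import Cfsg.Agent.Lib.Helper3.HN.DNid0
import Cfsg.Agent.Lib.Helper3.HN.DPair0
import Cfsg.Agent.Lib.Helper3.HN.DPair1
import Cfsg.Agent.Lib.Helper3.HN.DPair2
import Cfsg.Agent.Lib.Helper3.HN.DChain0
import Cfsg.Agent.Lib.Helper3.HN.DChain1
import Cfsg.Agent.Lib.Helper3.HN.DChain2
set_option autoImplicit false
set_option maxRecDepth 100000

namespace Cfsg.Agent.Lib.Helper3.HN.Tabs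
open Cfsg.Agent.Lib.Helper3.HN Cfsg.Agent.Lib.Helper3.HN.DNid Cfsg.Agent.Lib.Helper3.HN.DPair Cfsg.Agent.Lib.Helper3.HN.DChain

def relPairs : List (Wd × Wd) := [([5, 5, 5, 5, 5], []), ([2], [6, 2, 5]), ([5, 6], []), ([5, 5, 5], [1, 5, 0]), ([0, 1], []), ([5, 5], [0, 5, 1]), ([1, 0], []), ([5], [3, 5, 2]), ([2, 3], []), ([5], [2, 5, 3]), ([3, 2], []), ([], [6, 6, 5, 5]), ([5, 5, 6, 6], []), ([], [6, 6, 6, 5, 5, 5]), ([5, 5, 5, 6, 6, 6], []), ([], [6, 6, 5, 5, 5, 5, 5, 5, 5]), ([2], [6, 6, 2, 5, 5]), ([5, 5, 5, 5], [1, 5, 5, 5, 0]), ([5, 5, 5], [2, 5, 5, 5, 3]), ([5, 5, 5, 5], [0, 5, 5, 1]), ([5, 5, 5], [3, 5, 5, 5, 2]), ([5, 5], [2, 5, 5, 3]), ([5, 5], [3, 5, 5, 2]), ([], [6, 6, 6, 6, 5, 5, 5, 5]), ([5, 5, 5, 5, 6, 6, 6, 6], []), ([], [4, 5, 4, 5, 4, 5]), ([4, 4], []), ([], [6, 6, 6, 5, 5, 5, 5, 5, 5, 5, 5]), ([5, 5, 5, 5],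 [3, 5, 5, 5, 5, 2]), ([2], [6, 6, 6, 2, 5, 5, 5]), ([5], [0, 5, 5, 5, 1]), ([5], [1, 5, 5, 0]), ([5, 5], [5, 5]), ([5, 5, 5, 5], [2, 5, 5, 5, 5, 3]), ([0], [6, 6, 6, 6, 0, 5, 5]), ([0], [6, 6, 6, 0, 5, 5, 5, 5]), ([5, 5], [1, 5, 5, 5, 5, 0]), ([5, 5, 5], [0, 5, 5, 5, 5, 1]), ([0], [6, 6, 0, 5]), ([], [5, 4, 5, 4, 5, 4]), ([5, 5, 5, 5], [5, 5, 5, 5]), ([2], [6, 6, 6, 6, 2, 5, 5, 5, 5]), ([5, 5, 5], [5, 5, 5, 5, 5, 5, 5, 5]), ([], [5, 5, 6, 6, 6, 5]), ([5, 5, 5], [5, 5, 5]), ([], [5, 5, 5, 5, 6, 6, 5, 5, 5]), ([], [5, 6, 6, 5]), ([2], [5, 5, 5, 5, 2, 6, 6, 6, 6]), ([0], [6, 0, 5, 5, 5]), ([], [5, 5, 5, 6, 6, 6, 6, 5]), ([], [5, 5, 5, 5, 6, 6, 6, 5, 5, 5, 5]), ([], [5, 5, 6, 6, 6, 6, 5, 5]), ([5, 5], [5, 5, 5, 5, 5, 5, 5])]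

def nidChunks : List (List (ℕ × ℕ)) := [nc0, nc1, nc2, nc3, nc4, nc5, nc6, nc7, nc8, nc9, nc10, nc11, nc12, nc13, nc14, nc15, nc16, nc17, nc18, nc19, nc20, nc21, nc22, nc23, nc24, nc25, nc26]
def pairChunks : List (List (ℕ × ℕ)) := [pc0, pc1, pc2, pc3, pc4, pc5, pc6, pc7, pc8, pc9, pc10, pc11, pc12, pc13, pc14, pc15, pc16, pc17, pc18, pc19, pc20, pc21, pc22, pc23, pc24, pc25, pc26, pc27, pc28, pc29, pc30, pc31, pc32, pc33, pc34, pc35, pc36, pc37, pc38, pc39, pc40, pc41, pc42, pc43, pc44, pc45, pc46, pc47, pc48, pc49, pc50, pc51, pc52, pc53, pc54, pc55, pc56, pc57, pc58, pc59, pc60, pc61, pc62, pc63, pc64, pc65, pc66, pc67, pc68, pc69, pc70, pc71, pc72, pc73, pc74, pc75, pc76, pc77, pc78, pc79, pc80, pc81, pc82, pc83, pc84, pc85, pc86, pc87, pc88, pc89, pc90, pc91, pc92, pc93, pc94, pc95, pc96, pc97, pc98, pc99, pc100, pc101,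 pc102, pc103, pc104, pc105, pc106, pc107, pc108, pc109, pc110, pc111, pc112]
def chainChunks : List (List (ℕ × List ℕ)) := [cc0, cc1, cc2, cc3, cc4, cc5, cc6, cc7, cc8, cc9, cc10, cc11, cc12, cc13, cc14, cc15, cc16, cc17, cc18, cc19, cc20, cc21, cc22, cc23, cc24, cc25, cc26, cc27, cc28, cc29, cc30, cc31, cc32, cc33, cc34, cc35, cc36, cc37, cc38, cc39, cc40, cc41, cc42, cc43, cc44, cc45, cc46, cc47, cc48, cc49, cc50, cc51, cc52, cc53, cc54, cc55, cc56, cc57, cc58, cc59, cc60, cc61, cc62, cc63, cc64, cc65, cc66, cc67, cc68, cc69, cc70, cc71, cc72, cc73, cc74, cc75, cc76, cc77, cc78, cc79, cc80, cc81, cc82, cc83, cc84, cc85, cc86, cc87, cc88, cc89, cc90, cc91, cc92, cc93, cc94, cc95, cc96, cc97, cc98, cc99, cc100, cc101, cc102, cc103, cc104, cc105, cc106, cc107, cc108, cc109, cc110, cc111, cc112]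

def relTab (j : ℕ) : Wd × Wd := lookD relPairs j ([], [])
def nidTab (j : ℕ) : Wd × Wd :=
  cond (Nat.blt j 1688) (decP (lookD (lookD nidChunks (Nat.div j 64) []) (Nat.mod j 64) (1, 1))) ([], [])
def pairTab (j : ℕ) : Wd × Wd := decP (lookD (lookD pairChunks (Nat.div j 64) []) (Nat.mod j 64) (1, 1))
def chainTab (j : ℕ) : ℕ × List ℕ := lookD (lookD chainChunks (Nat.div j 64) []) (Nat.mod j 64) (0, [])
/-- the number of facts -/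
def nFacts : ℕ := 7205
/-- the number of identities in `N` -/
def nNids : ℕ := 1688

end Cfsg.Agent.Lib.Helper3.HN.Tabs
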