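import Cfsg.Agent.Lib.Helper3.HN.NKit
import Cfsg.Agent.Lib.Helper3.HN.Tabs
import Cfsg.Agent.Lib.Helper3.HN.NidChk3
set_option autoImplicit false
set_option maxRecDepth 100000

namespace Cfsg.Agent.Lib.Helper3.HN.NidChk
open Cfsg.Agent.Lib.Helper3.HN Cfsg.Agent.Lib.Helper3.HN.Tabs Cfsg.Agent.Lib.Helper3.HN.NKit

theorem nchk5 : nidRange nidTab 1250 250 = true := by decide +kernel

end Cfsg.Agent.Lib.Helper3.HN.NidChk
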