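import Cfsg.Agent.Lib.Helper3.HN.ChkAll
import Cfsg.Agent.Lib.Helper3.HN.RelOK
import Cfsg.Agent.Lib.Helper3.HN.NidAll
import Cfsg.Agent.Lib.Helper3.HN.Cover352
import Cfsg.Agent.Lib.Helper3.HN.Closure
import Cfsg.Agent.Lib.Helper3.HN.FinalData

set_option autoImplicit false
set_option maxRecDepth 100000
set_option linter.unusedVariables false
set_option linter.constructorNameAsVariable false

/-!
# The index of `N = ⟨x, y, z⟩` in the presented group `Spor.HN` is 1539000

The group is the union of nine double cosets `N r N` (chains of words, checked in `Chk*`), so the stabiliser of the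
point `0` in the action on 1539000 points (helper16) is `N`.
-/

namespace Cfsg.Agent.Lib.Helper3.HN.Index

open Cfsg Cfsg.Agent.Lib.Helper3.Cover
open Cfsg.Agent.Lib.Helper28.TC2Upper Cfsg.Agent.Lib.Helper28.TC2Lower Cfsg.Agent.Lib.Helper28.TC2Glue
open Cfsg.Agent.Lib.Helper14.HNx Cfsg.Agent.Lib.Helper14.HNx.Main
open Cfsg.Agent.Lib.Helper3.HN Cfsg.Agent.Lib.Helper3.HN.HNRel Cfsg.Agent.Lib.Helper3.HN.Tabs
open Cfsg.Agent.Lib.Helper3.HN.NKit Cfsg.Agent.Lib.Helper3.HN.Cover352
open Cfsg.Agent.Lib.Helper3.HN.P0W hiding P0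
open Cfsg.Agent.Lib.Helper3.HN.FinalData Cfsg.Agent.Lib.Helper3.HN.Chk Cfsg.Agent.Lib.Helper3.HN.NidChk
open Cfsg.Agent.Lib.Helper3.HN.RelOK

/-- the subgroup `⟨x, y, z⟩` -/
noncomputable def N : Subgroup Spor.HN :=
  (Subgroup.closure ({Spor.HN.x, Spor.HN.y, Spor.HN.z} : Set (FreeGroup Spor.HN.Gen))).map
    (PresentedGroup.mk HNRel.rels)

theorem N_eq_closure : N = Subgroup.closure ({HNRel.gx, HNRel.gy, HNRel.gz} : Set Spor.HN) := by
  unfold N
  rw [MonoidHom.map_closure]
  congr 1
  simp only [Set.image_insert_eq, Set.image_singleton]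
  rfl

theorem N_eq_range : N = φHN.range := range_φHN.symm

theorem gx_mem : HNRel.gx ∈ N := by rw [N_eq_closure]; exact Subgroup.subset_closure (by simp)
theorem gy_mem : HNRel.gy ∈ N := by rw [N_eq_closure]; exact Subgroup.subset_closure (by simp)
theorem gz_mem : HNRel.gz ∈ N := by rw [N_eq_closure]; exact Subgroup.subset_closure (by simp)

theorem lt_mem_N : ∀ c, c < 5 → lt c ∈ N := by
  intro c hc
  interval_cases c
  · exact gx_mem
  · exact N.inv_mem gx_mem
  · exact gy_mem
  · exact N.inv_mem gy_mem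
  · exact gz_mem

/-- all the facts of the certificate hold -/
theorem facts : ∀ i, i < nFacts → Rel lt N (pairTab i).1 (pairTab i).2 :=
  rel_of_check relTab nidTab pairTab chainTab lt_mem_N relTab_valid nidTab_valid nFacts chkAll

/-! ### the data -/

/-- the root words -/
def rootW (i : ℕ) : Wd := lookD roots i []

/-- prefix test -/
def isPre : Wd → Wd → Bool
  | [], _ => true
  | _ :: _, [] => false
  | a :: l, b :: m => and (Nat.beq a b) (isPre l m)

theorem isPre_eq {p w : Wd} (h : isPre p w = true) : w = p ++ w.drop p.length := by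
  induction p generalizing w with
  | nil => rfl
  | cons a l ih =>
    cases w with
    | nil => simp [isPre] at h
    | cons b m =>
      simp only [isPre, Bool.and_eq_true] at h
      have hab : a = b := Nat.eq_of_beq_eq_true h.1
      subst hab
      have := ih h.2
      simp only [List.length_cons, List.drop_succ_cons, List.cons_append]
      rw [← this]

/-- check of an entry of `gensData` -/
def genOK (e : ℕ × ℕ × Wd) : Bool :=
  and (and (Nat.blt e.2.1 nFacts) (allN e.2.2))
    (and (wbeq (pairTab e.2.1).1 (rootW e.1 ++ e.2.2)) (wbeq (pairTab e.2.1).2 (rootW e.1)))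

theorem gensOK : gensData.all genOK = true := by decide +kernel

/-- check of a fact of an entry of `repsData` -/
def repJOK (i : ℕ) (ρ : Wd) (j : ℕ) (fo : ℕ × ℕ) : Bool :=
  and (and (Nat.blt fo.1 nFacts) (Nat.blt fo.2 9))
    (and (wbeq (pairTab fo.1).1 (rootW i ++ (ρ ++ List.replicate j 5)))
      (and (isPre (rootW fo.2) (pairTab fo.1).2) (allN ((pairTab fo.1).2.drop (rootW fo.2).length))))

/-- check of an entry of `repsData` -/
def repOK (e : ℕ × Wd × List (ℕ × ℕ)) : Bool :=
  and (allN e.2.1)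
    (and (repJOK e.1 e.2.1 1 (lookD e.2.2 0 (0, 0)))
      (and (repJOK e.1 e.2.1 2 (lookD e.2.2 1 (0, 0)))
        (and (repJOK e.1 e.2.1 3 (lookD e.2.2 2 (0, 0))) (repJOK e.1 e.2.1 4 (lookD e.2.2 3 (0, 0))))))

theorem repsOK : repsData.all repOK = true := by decide +kernel

/-- the generators of the stabiliser of the root `i` -/
def gensOf (i : ℕ) : List Wd := (gensData.filter fun e => Nat.beq e.1 i).map fun e => e.2.2
/-- the representatives for the root `i` -/
def repsOf (i : ℕ) : List Wd := (repsData.filter fun e => Nat.beq e.1 i).map fun e => e.2.1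

theorem cov1 : coverOK (gensOf 1) (repsOf 1) = true := by decide +kernel
theorem cov2 : coverOK (gensOf 2) (repsOf 2) = true := by decide +kernel
theorem cov3 : coverOK (gensOf 3) (repsOf 3) = true := by decide +kernel
theorem cov4 : coverOK (gensOf 4) (repsOf 4) = true := by decide +kernel
theorem cov5 : coverOK (gensOf 5) (repsOf 5) = true := by decide +kernel
theorem cov6 : coverOK (gensOf 6) (repsOf 6) = true := by decide +kernel
theorem cov7 : coverOK (gensOf 7) (repsOf 7) = true := by decide +kernel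
theorem cov8 : coverOK (gensOf 8) (repsOf 8) = true := by decide +kernel

theorem rootsLt : roots.all (fun w => w.all fun c => Nat.blt c 7) = true := by decide +kernel

theorem rootW_lt (i : ℕ) : ∀ c ∈ rootW i, c < 7 := by
  intro c hc
  unfold rootW at hc
  rcases lookD_mem roots i [] with h | h
  · have := (List.all_eq_true.mp rootsLt) _ h
    have := (List.all_eq_true.mp this) c hc
    simpa [Nat.blt_eq] using this
  · rw [h] at hc; simp at hc

/-- the roots other than the first move the point `0` -/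
theorem rootsMove : allLoop (fun i => not (Nat.beq
    (Cfsg.Agent.Lib.Helper16.HNP.Table.table.walkT (rootW (Nat.succ i)).reverse 0) 0)) 8 = true := by
  decide +kernel

/-- the generators of `N` fix the point `0` -/
theorem gensFix : and (Nat.beq (Cfsg.Agent.Lib.Helper16.HNP.Table.table.walkT [0] 0) 0)
    (and (Nat.beq (Cfsg.Agent.Lib.Helper16.HNP.Table.table.walkT [2] 0) 0)
      (Nat.beq (Cfsg.Agent.Lib.Helper16.HNP.Table.table.walkT [4] 0) 0)) = true := by
  decide +kernel

/-! ### relations -/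

theorem hy (k : ℕ) : HNRel.gy * HNRel.gt ^ k = HNRel.gt ^ k * HNRel.gy := ((comm_ty.pow_left k).eq).symm

theorem hyi (k : ℕ) : HNRel.gy⁻¹ * HNRel.gt ^ k = HNRel.gt ^ k * HNRel.gy⁻¹ :=
  (((comm_ty.pow_left k).inv_right).eq).symm

theorem t5k (k : ℕ) : HNRel.gt ^ (5 * k) = 1 := by rw [pow_mul, ht5, one_pow]

theorem hx (k : ℕ) : HNRel.gx * HNRel.gt ^ k = HNRel.gt ^ (2 * k) * HNRel.gx := by
  have h := conj_tpow (2 * k)
  have h2 : (HNRel.gt ^ (2 * (2 * k)))⁻¹ = HNRel.gt ^ k := by
    rw [inv_eq_iff_mul_eq_one, ← pow_add]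
    have : 2 * (2 * k) + k = 5 * k := by ring
    rw [this, t5k]
  rw [h2] at h
  rw [← h]
  group

theorem hxi (k : ℕ) : HNRel.gx⁻¹ * HNRel.gt ^ k = HNRel.gt ^ (3 * k) * HNRel.gx⁻¹ := by
  have h := conj_tpow k
  have h2 : (HNRel.gt ^ (2 * k))⁻¹ = HNRel.gt ^ (3 * k) := by
    rw [inv_eq_iff_mul_eq_one, ← pow_add]
    have : 2 * k + 3 * k = 5 * k := by ring
    rw [this, t5k]
  rw [h2] at h
  rw [← h]
  group

theorem hgen : Subgroup.closure ({HNRel.gx, HNRel.gy, HNRel.gz, HNRel.gt} : Set Spor.HN) = ⊤ := by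
  rw [eq_top_iff, ← PresentedGroup.closure_range_of (rels := HNRel.rels)]
  apply Subgroup.closure_mono
  rintro _ ⟨g, rfl⟩
  cases g
  · left; rfl
  · right; left; rfl
  · right; right; left; rfl
  · right; right; right; rfl

/-! ### the double cosets -/

/-- the roots -/
noncomputable def r (i : ℕ) : Spor.HN := ev lt (rootW i)

/-- the generators of the stabilisers -/
def Sg (i : ℕ) : Set Spor.HN :=
  {g | (i = 0 ∧ (g = HNRel.gx ∨ g = HNRel.gy ∨ g = HNRel.gz)) ∨ ∃ w ∈ gensOf i, g = ev lt w}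

/-- the representatives -/
def Rp (i : ℕ) : Set Spor.HN := {g | ∃ w ∈ repsOf i, g = ev lt w}

theorem mem_gensOf {i : ℕ} {w : Wd} (h : w ∈ gensOf i) : ∃ f, (i, f, w) ∈ gensData := by
  unfold gensOf at h
  rw [List.mem_map] at h
  obtain ⟨⟨i', f, w'⟩, he, rfl⟩ := h
  rw [List.mem_filter] at he
  have : i' = i := Nat.eq_of_beq_eq_true he.2
  subst this
  exact ⟨f, he.1⟩

theorem mem_repsOf {i : ℕ} {w : Wd} (h : w ∈ repsOf i) : ∃ l, (i, w, l) ∈ repsData := by
  unfold repsOf at h
  rw [List.mem_map] at h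
  obtain ⟨⟨i', w', l⟩, he, rfl⟩ := h
  rw [List.mem_filter] at he
  have : i' = i := Nat.eq_of_beq_eq_true he.2
  subst this
  exact ⟨l, he.1⟩

theorem hA : ∀ i, i < 9 → ∀ s ∈ Sg i, r i * s * (r i)⁻¹ ∈ N := by
  intro i hi s hs
  rcases hs with ⟨rfl, hs⟩ | ⟨w, hw, rfl⟩
  · have e : r 0 = 1 := rfl
    rw [e, one_mul, inv_one, mul_one]
    rcases hs with rfl | rfl | rfl
    · exact gx_mem
    · exact gy_mem
    · exact gz_mem
  · obtain ⟨f, hf⟩ := mem_gensOf hw
    have hok := (List.all_eq_true.mp gensOK) _ hf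
    unfold genOK at hok
    simp only [Bool.and_eq_true] at hok
    obtain ⟨⟨h1, h2⟩, h3, h4⟩ := hok
    have hlt : f < nFacts := by simpa [Nat.blt_eq] using h1
    have hfact := facts f hlt
    rw [(wbeq_iff _ _).mp h3, (wbeq_iff _ _).mp h4] at hfact
    unfold Rel at hfact
    rw [ev_append] at hfact
    exact hfact

theorem hB_aux (i : ℕ) (w : Wd) (j : ℕ) (fo : ℕ × ℕ) (h : repJOK i w j fo = true) :
    ∃ i', i' < 9 ∧ ∃ n ∈ N, ∃ n' ∈ N, r i * ev lt w * HNRel.gt ^ j = n * r i' * n' := by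
  unfold repJOK at h
  simp only [Bool.and_eq_true] at h
  obtain ⟨⟨h1, h2⟩, h3, h4, h5⟩ := h
  have hlt : fo.1 < nFacts := by simpa [Nat.blt_eq] using h1
  have hi' : fo.2 < 9 := by simpa [Nat.blt_eq] using h2
  have hfact := facts fo.1 hlt
  have hv := isPre_eq h4
  rw [(wbeq_iff _ _).mp h3, hv] at hfact
  unfold Rel at hfact
  refine ⟨fo.2, hi', _, hfact, ev lt ((pairTab fo.1).2.drop (rootW fo.2).length),
    ev_mem_of_allN lt N lt_mem_N _ h5, ?_⟩
  rw [ev_append, ev_append, ev_append, ev_rep5]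
  unfold r
  group

theorem hB : ∀ i, i < 9 → ∀ ρ ∈ Rp i, ∀ j, j < 5 →
    ∃ i', i' < 9 ∧ ∃ n ∈ N, ∃ n' ∈ N, r i * ρ * HNRel.gt ^ j = n * r i' * n' := by
  rintro i hi ρ ⟨w, hw, rfl⟩ j hj
  obtain ⟨l, hl⟩ := mem_repsOf hw
  have hok := (List.all_eq_true.mp repsOK) _ hl
  unfold repOK at hok
  simp only [Bool.and_eq_true] at hok
  obtain ⟨h0, h1, h2, h3, h4⟩ := hok
  interval_cases j
  · exact ⟨i, hi, 1, N.one_mem, ev lt w, ev_mem_of_allN lt N lt_mem_N _ h0, by simp⟩
  · exact hB_aux i w 1 _ h1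
  · exact hB_aux i w 2 _ h2
  · exact hB_aux i w 3 _ h3
  · exact hB_aux i w 4 _ h4

theorem φHN_U0 {u : P0} (hu : u ∈ U0) :
    φHN u ∈ Subgroup.closure ({HNRel.gx, HNRel.gy} : Set Spor.HN) := by
  unfold U0 at hu
  rw [Subgroup.mem_map] at hu
  obtain ⟨v, hv, rfl⟩ := hu
  induction hv using Subgroup.closure_induction with
  | mem v hv =>
    rcases hv with rfl | rfl
    · apply Subgroup.subset_closure
      left
      exact φHN_of .x
    · apply Subgroup.subset_closure
      right
      exact φHN_of .y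
  | one => simp
  | mul a b _ _ ha hb =>
    rw [map_mul, map_mul]
    exact Subgroup.mul_mem _ ha hb
  | inv a _ ha =>
    rw [map_inv, map_inv]
    exact Subgroup.inv_mem _ ha

theorem hcov_of_cover {i : ℕ} (h : coverOK (gensOf i) (repsOf i) = true) :
    ∀ n ∈ N, ∃ s ∈ Subgroup.closure (Sg i), ∃ ρ ∈ Rp i,
      ∃ u ∈ Subgroup.closure ({HNRel.gx, HNRel.gy} : Set Spor.HN), n = s * ρ * u := by
  intro n hn
  rw [N_eq_range] at hn
  obtain ⟨a, rfl⟩ := hn
  obtain ⟨s, hs, w, hw, u, hu, rfl⟩ := cover h a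
  have hall := h
  unfold coverOK at hall
  simp only [Bool.and_eq_true, allNs_iff] at hall
  obtain ⟨⟨hg, hr⟩, -⟩ := hall
  refine ⟨φHN s, ?_, ev lt w, ⟨w, hw, rfl⟩, φHN u, φHN_U0 hu, ?_⟩
  · induction hs using Subgroup.closure_induction with
    | mem g hg' =>
      obtain ⟨w', hw', rfl⟩ := hg'
      apply Subgroup.subset_closure
      right
      exact ⟨w', hw', φHN_p0 w' (hg w' hw')⟩
    | one => simp
    | mul a b _ _ ha hb =>
      rw [map_mul]
      exact Subgroup.mul_mem _ ha hb
    | inv a _ ha =>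
      rw [map_inv]
      exact Subgroup.inv_mem _ ha
  · rw [map_mul, map_mul, φHN_p0 w (hr w hw)]

theorem hcov : ∀ i, i < 9 → ∀ n ∈ N, ∃ s ∈ Subgroup.closure (Sg i), ∃ ρ ∈ Rp i,
    ∃ u ∈ Subgroup.closure ({HNRel.gx, HNRel.gy} : Set Spor.HN), n = s * ρ * u := by
  intro i hi
  interval_cases i
  · intro n hn
    refine ⟨n, ?_, 1, ⟨[], by decide, rfl⟩, 1, Subgroup.one_mem _, by simp⟩
    rw [N_eq_closure] at hn
    refine Subgroup.closure_mono ?_ hn
    intro g hg
    left
    refine ⟨rfl, ?_⟩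
    simpa using hg
  · exact hcov_of_cover cov1
  · exact hcov_of_cover cov2
  · exact hcov_of_cover cov3
  · exact hcov_of_cover cov4
  · exact hcov_of_cover cov5
  · exact hcov_of_cover cov6
  · exact hcov_of_cover cov7
  · exact hcov_of_cover cov8

/-- `HN` is the union of nine double cosets of `N` -/
theorem all_double : ∀ g : Spor.HN, ∃ i, i < 9 ∧ ∃ n ∈ N, ∃ n' ∈ N, g = n * r i * n' :=
  Closure.all_mem N HNRel.gx HNRel.gy HNRel.gz HNRel.gt gx_mem gy_mem gz_mem hgen ht5 hy hyi hx hxi 9 r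
    ⟨by norm_num, rfl⟩ Sg Rp hA hB hcov

/-! ### the index -/

theorem index_of_action {G : Type*} [Group G] (K : Subgroup G) {n : ℕ} (φ : G →* Equiv.Perm (Fin n))
    (b : Fin n) (hfix : ∀ g ∈ K, φ g b = b) (hstab : ∀ g, φ g b = b → g ∈ K)
    (htrans : ∀ p, ∃ g, φ g b = p) : K.index = n := by
  let f : G ⧸ K → Fin n := Quotient.lift (fun g : G => φ g b) (by
    intro a c hac
    have hac' : a⁻¹ * c ∈ K := QuotientGroup.leftRel_apply.mp hac
    have := hfix _ hac'
    show φ a b = φ c b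
    have e : c = a * (a⁻¹ * c) := by group
    rw [e, map_mul, Equiv.Perm.mul_apply, this])
  have hf : Function.Bijective f := by
    constructor
    · intro q1 q2
      induction q1 using QuotientGroup.induction_on with
      | H a =>
        induction q2 using QuotientGroup.induction_on with
        | H c =>
          intro h
          have h' : φ a b = φ c b := h
          apply QuotientGroup.eq.mpr
          apply hstab
          rw [map_mul, map_inv, Equiv.Perm.mul_apply, ← h']
          exact Equiv.symm_apply_apply _ _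
    · intro p
      obtain ⟨g, hg⟩ := htrans p
      exact ⟨QuotientGroup.mk g, hg⟩
  rw [Subgroup.index, Nat.card_congr (Equiv.ofBijective f hf), Nat.card_fin]

/-- the index of `N`, given that the action on the 1539000 points is transitive -/
theorem index_N (htrans : ∀ p, p < Cfsg.Agent.Lib.Helper16.HNP.Table.table.n →
    ∃ w : List ℕ, (∀ l ∈ w, l < 7) ∧ Cfsg.Agent.Lib.Helper16.HNP.Table.table.walkT w 0 = p) :
    N.index = 1539000 := by
  obtain ⟨φ, hφ⟩ := Cfsg.Agent.Lib.Helper16.HNP.Main.perm_rep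
  have hn : 0 < Cfsg.Agent.Lib.Helper16.HNP.Table.table.n := by show 0 < 1539000; omega
  have hwalk : ∀ w : Wd, (∀ c ∈ w, c < 7) → ∀ p : Fin Cfsg.Agent.Lib.Helper16.HNP.Table.table.n,
      (φ (ev lt w) p).val = Cfsg.Agent.Lib.Helper16.HNP.Table.table.walkT w.reverse p.val := by
    intro w hw p
    rw [ev_eq_mk w hw, hφ, pathOf_toH w hw]
  have hfixgen := gensFix
  simp only [Bool.and_eq_true] at hfixgen
  obtain ⟨f0, f2, f4⟩ := hfixgen
  have hfix : ∀ g ∈ N, φ g ⟨0, hn⟩ = ⟨0, hn⟩ := by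
    intro g hg
    have hle : N ≤ (MulAction.stabilizer (Equiv.Perm (Fin Cfsg.Agent.Lib.Helper16.HNP.Table.table.n))
        (⟨0, hn⟩ : Fin _)).comap φ := by
      rw [N_eq_closure, Subgroup.closure_le]
      intro s hs
      show φ s ∈ MulAction.stabilizer _ _
      rw [MulAction.mem_stabilizer_iff]
      apply Fin.ext
      rcases hs with rfl | rfl | rfl
      · have := hwalk [0] (by decide) ⟨0, hn⟩
        have e : ev lt [0] = HNRel.gx := by simp [ev, lt]
        rw [e] at this
        show (φ HNRel.gx ⟨0, hn⟩).val = 0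
        rw [this]
        exact Nat.eq_of_beq_eq_true f0
      · have := hwalk [2] (by decide) ⟨0, hn⟩
        have e : ev lt [2] = HNRel.gy := by simp [ev, lt]
        rw [e] at this
        show (φ HNRel.gy ⟨0, hn⟩).val = 0
        rw [this]
        exact Nat.eq_of_beq_eq_true f2
      · have := hwalk [4] (by decide) ⟨0, hn⟩
        have e : ev lt [4] = HNRel.gz := by simp [ev, lt]
        rw [e] at this
        show (φ HNRel.gz ⟨0, hn⟩).val = 0
        rw [this]
        exact Nat.eq_of_beq_eq_true f4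
    exact MulAction.mem_stabilizer_iff.mp (hle hg)
  have hstab : ∀ g, φ g ⟨0, hn⟩ = ⟨0, hn⟩ → g ∈ N := by
    intro g hg
    obtain ⟨i, hi, a, ha, c, hc, rfl⟩ := all_double g
    rcases Nat.eq_zero_or_pos i with rfl | hpos
    · have e : r 0 = 1 := rfl
      rw [e, mul_one]
      exact N.mul_mem ha hc
    · exfalso
      have h1 : φ (r i) ⟨0, hn⟩ = ⟨0, hn⟩ := by
        have e : r i = a⁻¹ * (a * r i * c) * c⁻¹ := by group
        rw [e, map_mul, map_mul, Equiv.Perm.mul_apply, Equiv.Perm.mul_apply,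
          hfix _ (N.inv_mem hc), hg, hfix _ (N.inv_mem ha)]
      have h2 := hwalk (rootW i) (rootW_lt i) ⟨0, hn⟩
      have h3 := rootsMove
      rw [allLoop_eq_true] at h3
      have h4 := h3 (i - 1) (by omega)
      have e : Nat.succ (i - 1) = i := by omega
      rw [e] at h4
      have h5 : (φ (r i) ⟨0, hn⟩).val = 0 := by rw [h1]
      unfold r at h5
      rw [h2] at h5
      simp only [Bool.not_eq_true', ] at h4
      have h6 : Nat.beq (Cfsg.Agent.Lib.Helper16.HNP.Table.table.walkT (rootW i).reverse 0) 0 = true := by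
        show Nat.beq (Cfsg.Agent.Lib.Helper16.HNP.Table.table.walkT (rootW i).reverse (0 : ℕ)) 0 = true
        have : Cfsg.Agent.Lib.Helper16.HNP.Table.table.walkT (rootW i).reverse 0 = 0 := h5
        rw [this]
        rfl
      rw [h6] at h4
      exact Bool.noConfusion h4
  have htr : ∀ p : Fin Cfsg.Agent.Lib.Helper16.HNP.Table.table.n, ∃ g, φ g ⟨0, hn⟩ = p := by
    intro p
    obtain ⟨w, hw, hp⟩ := htrans p.val p.2
    refine ⟨ev lt w.reverse, ?_⟩
    apply Fin.ext
    rw [hwalk w.reverse (fun c hc => hw c (List.mem_reverse.mp hc)), List.reverse_reverse]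
    exact hp
  exact index_of_action N φ ⟨0, hn⟩ hfix hstab htr

end Cfsg.Agent.Lib.Helper3.HN.Index
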