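import Cfsg.Agent.Lib.Helper3.HN.Tabs
set_option autoImplicit false
set_option maxRecDepth 100000

namespace Cfsg.Agent.Lib.Helper3.HN.Chk
open Cfsg.Agent.Lib.Helper3.HN Cfsg.Agent.Lib.Helper3.HN.Tabs

theorem chk3 : checkRange relTab nidTab pairTab chainTab 1200 400 = true := by decide +kernel

end Cfsg.Agent.Lib.Helper3.HN.Chk
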