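import Cfsg.Agent.Lib.Helper3.HN.Chk0
import Cfsg.Agent.Lib.Helper3.HN.Chk1
import Cfsg.Agent.Lib.Helper3.HN.Chk2
import Cfsg.Agent.Lib.Helper3.HN.Chk3
import Cfsg.Agent.Lib.Helper3.HN.Chk4
import Cfsg.Agent.Lib.Helper3.HN.Chk5
import Cfsg.Agent.Lib.Helper3.HN.Chk6
import Cfsg.Agent.Lib.Helper3.HN.Chk7
import Cfsg.Agent.Lib.Helper3.HN.Chk8
import Cfsg.Agent.Lib.Helper3.HN.Chk9
import Cfsg.Agent.Lib.Helper3.HN.Chk10
import Cfsg.Agent.Lib.Helper3.HN.Chk11
import Cfsg.Agent.Lib.Helper3.HN.Chk12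
import Cfsg.Agent.Lib.Helper3.HN.Chk13
import Cfsg.Agent.Lib.Helper3.HN.Chk14
import Cfsg.Agent.Lib.Helper3.HN.Chk15
import Cfsg.Agent.Lib.Helper3.HN.Chk16
import Cfsg.Agent.Lib.Helper3.HN.Chk17
import Cfsg.Agent.Lib.Helper3.HN.Chk18
set_option autoImplicit false
set_option maxRecDepth 100000

namespace Cfsg.Agent.Lib.Helper3.HN.Chk
open Cfsg.Agent.Lib.Helper3.HN Cfsg.Agent.Lib.Helper3.HN.Tabs

theorem chkAll : ∀ i, i < nFacts → checkEntry relTab nidTab pairTab chainTab i = true := by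
  intro i hi
  have hi' : i < 7205 := hi
  rcases Nat.lt_or_ge i 400 with h0 | h0
  · exact (checkRange_iff _ _ _ _ 0 400).mp chk0 i (by omega) (by omega)
  rcases Nat.lt_or_ge i 800 with h1 | h1
  · exact (checkRange_iff _ _ _ _ 400 400).mp chk1 i (by omega) (by omega)
  rcases Nat.lt_or_ge i 1200 with h2 | h2
  · exact (checkRange_iff _ _ _ _ 800 400).mp chk2 i (by omega) (by omega)
  rcases Nat.lt_or_ge i 1600 with h3 | h3
  · exact (checkRange_iff _ _ _ _ 1200 400).mp chk3 i (by omega) (by omega)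
  rcases Nat.lt_or_ge i 2000 with h4 | h4
  · exact (checkRange_iff _ _ _ _ 1600 400).mp chk4 i (by omega) (by omega)
  rcases Nat.lt_or_ge i 2400 with h5 | h5
  · exact (checkRange_iff _ _ _ _ 2000 400).mp chk5 i (by omega) (by omega)
  rcases Nat.lt_or_ge i 2800 with h6 | h6
  · exact (checkRange_iff _ _ _ _ 2400 400).mp chk6 i (by omega) (by omega)
  rcases Nat.lt_or_ge i 3200 with h7 | h7
  · exact (checkRange_iff _ _ _ _ 2800 400).mp chk7 i (by omega) (by omega)
  rcases Nat.lt_or_ge i 3600 with h8 | h8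
  · exact (checkRange_iff _ _ _ _ 3200 400).mp chk8 i (by omega) (by omega)
  rcases Nat.lt_or_ge i 4000 with h9 | h9
  · exact (checkRange_iff _ _ _ _ 3600 400).mp chk9 i (by omega) (by omega)
  rcases Nat.lt_or_ge i 4400 with h10 | h10
  · exact (checkRange_iff _ _ _ _ 4000 400).mp chk10 i (by omega) (by omega)
  rcases Nat.lt_or_ge i 4800 with h11 | h11
  · exact (checkRange_iff _ _ _ _ 4400 400).mp chk11 i (by omega) (by omega)
  rcases Nat.lt_or_ge i 5200 with h12 | h12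
  · exact (checkRange_iff _ _ _ _ 4800 400).mp chk12 i (by omega) (by omega)
  rcases Nat.lt_or_ge i 5600 with h13 | h13
  · exact (checkRange_iff _ _ _ _ 5200 400).mp chk13 i (by omega) (by omega)
  rcases Nat.lt_or_ge i 6000 with h14 | h14
  · exact (checkRange_iff _ _ _ _ 5600 400).mp chk14 i (by omega) (by omega)
  rcases Nat.lt_or_ge i 6400 with h15 | h15
  · exact (checkRange_iff _ _ _ _ 6000 400).mp chk15 i (by omega) (by omega)
  rcases Nat.lt_or_ge i 6800 with h16 | h16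
  · exact (checkRange_iff _ _ _ _ 6400 400).mp chk16 i (by omega) (by omega)
  rcases Nat.lt_or_ge i 7200 with h17 | h17
  · exact (checkRange_iff _ _ _ _ 6800 400).mp chk17 i (by omega) (by omega)
  exact (checkRange_iff _ _ _ _ 7200 5).mp chk18 i (by omega) (by omega)

end Cfsg.Agent.Lib.Helper3.HN.Chk
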