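import Mathlib
import Cfsg.Agent.Lib.Helper25.Moore

set_option autoImplicit false

/-!
# Ten elements satisfying Moore's relations generate a copy of `A₁₂`
-/

namespace Cfsg.Agent.Lib.Helper3.HN.MooreAlt

open Cfsg.Agent.Lib.Helper25.Moore

/-- Elements `y 0, …, y 9` of a group satisfying Moore's relations, with `y 0 ≠ 1`, generate a subgroup
isomorphic to the alternating group of degree 12. -/
theorem exists_alt12 {G : Type*} [Group G] (y : ℕ → G) (h : MooreRel y 10) (hne : y 0 ≠ 1) :
    ∃ A : Subgroup G, Nonempty (A ≃* alternatingGroup (Fin 12)) := by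
  obtain ⟨φ, hφ⟩ := exists_hom_of_mooreRel y 10 h
  obtain ⟨e⟩ := nonempty_mulEquiv_alternatingGroup 10
  have hs12 : IsSimpleGroup (alternatingGroup (Fin 12)) :=
    alternatingGroup.isSimpleGroup (by rw [Nat.card_fin]; norm_num)
  have hsM : IsSimpleGroup (MooreGroup 10) := by
    have : Nontrivial (MooreGroup 10) := e.toEquiv.nontrivial
    exact IsSimpleGroup.isSimpleGroup_of_surjective e.symm.toMonoidHom e.symm.surjective
  have hinj : Function.Injective φ := by
    rw [← MonoidHom.ker_eq_bot_iff]
    rcases hsM.eq_bot_or_eq_top_of_normal φ.ker inferInstance with h1 | h1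
    · exact h1
    · exfalso
      apply hne
      have h0 : (PresentedGroup.of (⟨0, by norm_num⟩ : Fin 10) : MooreGroup 10) ∈ φ.ker := by
        rw [h1]; trivial
      rw [MonoidHom.mem_ker, hφ] at h0
      exact h0
  exact ⟨φ.range, ⟨(MonoidHom.ofInjective hinj).symm.trans e⟩⟩

end Cfsg.Agent.Lib.Helper3.HN.MooreAlt
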