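import Cfsg.Agent.Lib.Helper14.HNx.Main
import Cfsg.Agent.Lib.Helper16.HSM.HSMain
import Cfsg.Agent.Lib.Helper16.HNP.Main
import Cfsg.Agent.Lib.Helper3.HN.Kit
import Cfsg.Agent.Lib.Helper3.HN.HNRel
import Cfsg.Agent.Lib.Helper3.HN.P0W

set_option autoImplicit false
set_option maxRecDepth 100000
set_option linter.unusedVariables false
set_option linter.style.haveILetI false
set_option linter.constructorNameAsVariable false

/-!
# Identities in `N = ⟨x, y, z⟩ ≤ HN` are decided by walks in two tables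

`N` is the isomorphic image of `P0 = ⟨x, y, z | …⟩`; an element of `P0` is trivial as soon as it acts trivially on the
100 points of the Higman–Sims graph and is not `x * x`; the latter is excluded by the action of `HN` on 1539000 points.
-/

namespace Cfsg.Agent.Lib.Helper3.HN.NKit

open Cfsg Cfsg.Agent.Lib.Helper3.Cover
open Cfsg.Agent.Lib.Helper28.TC2Upper Cfsg.Agent.Lib.Helper28.TC2Lower Cfsg.Agent.Lib.Helper28.TC2Glue
open Cfsg.Agent.Lib.Helper14.HNx Cfsg.Agent.Lib.Helper14.HNx.Main
open Cfsg.Agent.Lib.Helper3.HN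
open Cfsg.Agent.Lib.Helper3.HN.HNRel hiding gx gy gz gt
open Cfsg.Agent.Lib.Helper3.HN.P0W hiding P0

/-- the letters of `HN` -/
def toH : ℕ → Spor.HN.Gen × Bool
  | 0 => (.x, true)
  | 1 => (.x, false)
  | 2 => (.y, true)
  | 3 => (.y, false)
  | 4 => (.z, true)
  | 5 => (.t, true)
  | _ => (.t, false)

theorem lw_toH {c : ℕ} (h : c < 7) : Cfsg.Agent.Lib.Helper16.HNP.Main.lw (toH c) = c := by
  interval_cases c <;> rfl

theorem pathOf_toH (w : Wd) (h : ∀ c ∈ w, c < 7) :
    pathOf Cfsg.Agent.Lib.Helper16.HNP.Main.lw (w.map toH) = w.reverse := by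
  unfold pathOf
  congr 1
  induction w with
  | nil => rfl
  | cons c w ih =>
    simp only [List.map_cons]
    rw [lw_toH (h c (List.mem_cons_self ..)), ih (fun c hc => h c (List.mem_cons_of_mem _ hc))]

/-- the word as an element of `HN` -/
theorem ev_eq_mk (w : Wd) (h : ∀ c ∈ w, c < 7) :
    ev lt w = PresentedGroup.mk HNRel.rels (FreeGroup.mk (w.map toH)) := by
  induction w with
  | nil => rfl
  | cons c w ih =>
    rw [ev_cons, ih (fun c hc => h c (List.mem_cons_of_mem _ hc))]
    have hc := h c (List.mem_cons_self ..)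
    have e : FreeGroup.mk ((c :: w).map toH) = FreeGroup.mk [toH c] * FreeGroup.mk (w.map toH) := by
      rw [FreeGroup.mul_mk]; rfl
    rw [e, map_mul]
    congr 1
    interval_cases c
    · rfl
    · show HNRel.gx⁻¹ = _
      rw [HNRel.gx, ← map_inv]; rfl
    · rfl
    · show HNRel.gy⁻¹ = _
      rw [HNRel.gy, ← map_inv]; rfl
    · rfl
    · rfl
    · show HNRel.gt⁻¹ = _
      rw [HNRel.gt, ← map_inv]; rfl

theorem φHN_p0 (w : Wd) (h : allN w = true) : φHN (p0 w) = ev lt w := by
  induction w with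
  | nil => simp [p0_nil, ev_nil]
  | cons c w ih =>
    simp only [allN, Bool.and_eq_true] at h
    have hc : c < 5 := by simpa [Nat.blt_eq] using h.1
    rw [p0_cons, map_mul, ih h.2, ev_cons]
    congr 1
    interval_cases c
    · exact φHN_of .x
    · have e : p0 [1] = (PresentedGroup.of .x : P0)⁻¹ := by
        unfold p0
        rw [PresentedGroup.of, ← map_inv]; rfl
      rw [e, map_inv, φHN_of]; rfl
    · exact φHN_of .y
    · have e : p0 [3] = (PresentedGroup.of .y : P0)⁻¹ := by
        unfold p0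
        rw [PresentedGroup.of, ← map_inv]; rfl
      rw [e, map_inv, φHN_of]; rfl
    · exact φHN_of .z

/-- `exists_pi` of helper14, keeping the description of the action by walks -/
theorem exists_pi' : ∃ π : P0 →* ↥G100.Gam, Function.Surjective π ∧ π (gx * gx) = 1 ∧
    ∀ (L : List (P0Def.Gen × Bool)) (p : Fin L100Table.table.n),
      ((π (PresentedGroup.mk _ (FreeGroup.mk L)) : Equiv.Perm (Fin L100Table.table.n)) p).val =
        L100Table.table.walkT (pathOf P0Link.lw L) p.val := by
  obtain ⟨φ, hφ⟩ := lower_hom P0Def.relWords P0Link.lw L100Table.table G100.hT lwk100 lwinv100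
    (fun L hL => L100Low.hchkT _ (hmem100 L hL))
  have hof : ∀ x b, φ (PresentedGroup.mk _ (FreeGroup.mk [(x, b)])) =
      Table.sigma G100.hT (P0Link.lw (x, b)) := by
    intro x b
    ext p
    rw [hφ [(x, b)] p, Table.sigma_apply G100.hT (lwk100 _)]
    have e : pathOf P0Link.lw [(x, b)] = [P0Link.lw (x, b)] := rfl
    rw [e, Table.walkT_cons, Table.walkT_nil]
  have hmem : ∀ g : P0, φ g ∈ G100.Gam := by
    intro g
    have hg : g ∈ Subgroup.closure (Set.range (PresentedGroup.of (rels := relSet P0Def.relWords))) := by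
      rw [PresentedGroup.closure_range_of]; trivial
    induction hg using Subgroup.closure_induction with
    | mem y hy =>
      obtain ⟨x, rfl⟩ := hy
      have : (PresentedGroup.of x : P0) = PresentedGroup.mk _ (FreeGroup.mk [(x, true)]) := rfl
      rw [this, hof]
      exact G100.sigma_mem (lwk100 _)
    | one => rw [map_one]; exact Subgroup.one_mem _
    | mul y z _ _ hy hz => rw [map_mul]; exact Subgroup.mul_mem _ hy hz
    | inv y _ hy => rw [map_inv]; exact Subgroup.inv_mem _ hy
  let ψ : P0 →* ↥G100.Gam := φ.codRestrict G100.Gam hmem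
  have hge : G100.Gam ≤ φ.range := by
    unfold G100.Gam
    rw [Subgroup.closure_le]
    rintro π ⟨l, hl, rfl⟩
    have key : ∀ x b, Table.sigma G100.hT (P0Link.lw (x, b)) ∈ φ.range :=
      fun x b => ⟨_, hof x b⟩
    interval_cases l
    · exact key .x true
    · exact key .x false
    · exact key .y true
    · exact key .y false
    · exact key .z true
    · exact key .z false
  have hsurj : Function.Surjective ψ := by
    intro h
    obtain ⟨g, hg⟩ := hge h.2
    exact ⟨g, Subtype.ext hg⟩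
  refine ⟨ψ, hsurj, ?_, ?_⟩
  · apply Subtype.ext
    show φ (gx * gx) = 1
    have : (gx * gx : P0) = PresentedGroup.mk _ (FreeGroup.mk [(.x, true), (.x, true)]) := rfl
    rw [this]
    exact eq_one_of_walk φ hφ _ xx_walk
  · intro L p
    exact hφ L p

/-- the structure of `P0` and its two actions -/
theorem kitHN : ∃ π : P0 →* ↥G100.Gam,
    (∀ (L : List (P0Def.Gen × Bool)) (p : Fin L100Table.table.n),
      ((π (PresentedGroup.mk _ (FreeGroup.mk L)) : Equiv.Perm (Fin L100Table.table.n)) p).val =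
        L100Table.table.walkT (pathOf P0Link.lw L) p.val) ∧
    (∀ r ∈ π.ker, r = 1 ∨ r = gx * gx) ∧ Function.Injective φHN ∧
      (gx * gx : P0) ∈ Subgroup.center P0 := by
  haveI := cardP0.1
  obtain ⟨π, hπ, hc, hw⟩ := exists_pi'
  obtain ⟨hcG, S, hSn, hSi, hSs, hScard, ⟨e⟩, hZ⟩ := GamStruct.gam_structure
  have hker : Nat.card π.ker ≤ 6 := by
    have h1 := Subgroup.card_mul_index π.ker
    rw [Subgroup.index_ker, MonoidHom.range_eq_top.mpr hπ, Subgroup.card_top, hcG] at h1
    have h2 := cardP0.2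
    rw [← h1] at h2
    exact Nat.le_of_mul_le_mul_right h2 (by norm_num)
  have hφ : φHN (gx * gx) ≠ 1 := by
    rw [map_mul, φHN_of, ← pow_two]
    exact Cfsg.Agent.Lib.Helper16.HNP.Main.x_sq_ne_one
  obtain ⟨h1, h2, h3⟩ := Kit.kit gx gy gz hgen hz hclean π hπ hker hc S hSn hSi hSs hScard e hZ
    Cfsg.Agent.Lib.Helper16.HSM.HSMain.schur_HS φHN hφ
  exact ⟨π, hw, h1, h2, h3⟩

/-- the test for an identity in `N` -/
noncomputable def nidOK (p : Wd × Wd) : Bool :=
  and (and (allN p.1) (allN p.2))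
    (and (allLoop (fun q => Nat.beq (L100Table.table.walkT p.1.reverse q) (L100Table.table.walkT p.2.reverse q)) 100)
      (Nat.beq (Cfsg.Agent.Lib.Helper16.HNP.Table.table.walkT p.1.reverse 1)
        (Cfsg.Agent.Lib.Helper16.HNP.Table.table.walkT p.2.reverse 1)))

theorem ev_eq_of_nidOK {p : Wd × Wd} (h : nidOK p = true) : ev lt p.1 = ev lt p.2 := by
  unfold nidOK at h
  simp only [Bool.and_eq_true, allLoop_eq_true] at h
  obtain ⟨⟨hn1, hn2⟩, h100, hH⟩ := h
  obtain ⟨π, hw, hker, hinj, hcen⟩ := kitHN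
  obtain ⟨φ, hφ⟩ := Cfsg.Agent.Lib.Helper16.HNP.Main.perm_rep
  have hπ : π (p0 p.1) = π (p0 p.2) := by
    apply Subtype.ext
    apply Equiv.ext
    intro q
    apply Fin.ext
    rw [p0, p0, hw, hw, pathOf_toL _ hn1, pathOf_toL _ hn2]
    exact Nat.eq_of_beq_eq_true (h100 q.val q.2)
  have hk : p0 p.1 * (p0 p.2)⁻¹ ∈ π.ker := by
    rw [MonoidHom.mem_ker, map_mul, map_inv, hπ, mul_inv_cancel]
  rcases hker _ hk with h1 | h1
  · have : p0 p.1 = p0 p.2 := mul_inv_eq_one.mp h1
    rw [← φHN_p0 _ hn1, ← φHN_p0 _ hn2, this]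
  · exfalso
    have e1 : p0 p.1 = p0 p.2 * (gx * gx) := by
      have : p0 p.1 = (gx * gx) * p0 p.2 := by rw [← h1]; group
      rw [this]
      exact (Subgroup.mem_center_iff.mp hcen (p0 p.2)).symm
    have e2 : ev lt p.1 = ev lt p.2 * ev lt [0, 0] := by
      rw [← φHN_p0 _ hn1, ← φHN_p0 _ hn2, e1, map_mul]
      congr 1
    have l7 : ∀ {w : Wd}, allN w = true → ∀ c ∈ w, c < 7 := fun hw c hc => by
      have := allN_lt hw c hc; omega
    have hn : 1 < Cfsg.Agent.Lib.Helper16.HNP.Table.table.n := by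
      show 1 < 1539000; omega
    have hn4 : 4 < Cfsg.Agent.Lib.Helper16.HNP.Table.table.n := by
      show 4 < 1539000; omega
    have w1 := hφ (p.1.map toH) ⟨1, hn⟩
    have w2 := hφ (p.2.map toH) ⟨1, hn⟩
    rw [← ev_eq_mk _ (l7 hn1), pathOf_toH _ (l7 hn1)] at w1
    rw [← ev_eq_mk _ (l7 hn2), pathOf_toH _ (l7 hn2)] at w2
    have w3 := hφ ([0, 0].map toH) ⟨1, hn⟩
    rw [← ev_eq_mk _ (by decide)] at w3
    have w3' : φ (ev lt [0, 0]) ⟨1, hn⟩ = ⟨4, hn4⟩ := by
      apply Fin.ext
      rw [w3]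
      exact Cfsg.Agent.Lib.Helper16.HNP.Main.walk_xx
    have heq : φ (ev lt p.1) ⟨1, hn⟩ = φ (ev lt p.2) ⟨1, hn⟩ := by
      apply Fin.ext
      rw [w1, w2]
      exact Nat.eq_of_beq_eq_true hH
    rw [e2, map_mul, Equiv.Perm.mul_apply, w3'] at heq
    have := (φ (ev lt p.2)).injective heq
    have := congrArg Fin.val this
    simp at this

/-- check the identities `lo, …, lo + cnt - 1` -/
noncomputable def nidRange (tab : ℕ → Wd × Wd) (lo : ℕ) : ℕ → Bool
  | 0 => true
  | cnt + 1 => and (nidOK (tab (lo + cnt))) (nidRange tab lo cnt)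

theorem nidRange_iff (tab : ℕ → Wd × Wd) (lo cnt : ℕ) :
    nidRange tab lo cnt = true ↔ ∀ i, lo ≤ i → i < lo + cnt → nidOK (tab i) = true := by
  induction cnt with
  | zero => simp [nidRange]; intro i h1 h2; omega
  | succ cnt ih =>
    simp only [nidRange, Bool.and_eq_true, ih]
    constructor
    · rintro ⟨h1, h2⟩ i hi hi'
      rcases Nat.lt_or_ge i (lo + cnt) with h | h
      · exact h2 i hi h
      · have : i = lo + cnt := by omega
        rw [this]; exact h1
    · intro h
      exact ⟨h _ (by omega) (by omega), fun i hi hi' => h i hi (by omega)⟩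

end Cfsg.Agent.Lib.Helper3.HN.NKit
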