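import Mathlib
import Cfsg.Prelude.Def_Sporadic

set_option autoImplicit false

/-!
# From a subgroup `A ≅ A₁₂` of a group of Harada–Norton order to a permutation realisation

If `G` is simple of order `273030912000000` and `A ≤ G` is isomorphic to the alternating group of degree 12,
then `A` has index `1140000`, and the action of `G` on the cosets of `A`, transported to `Fin 1140000` with the
trivial coset going to `0`, is a faithful transitive permutation group with point stabiliser `≅ A₁₂`.
-/

namespace Cfsg.Agent.Lib.Helper3.HN.PermReal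

open MulAction

theorem card_alt12 : Nat.card (alternatingGroup (Fin 12)) = 239500800 := by
  have h := two_mul_card_alternatingGroup (α := Fin 12)
  rw [Fintype.card_perm, Fintype.card_fin] at h
  have h2 : (12 : ℕ).factorial = 479001600 := by decide
  rw [h2] at h
  rw [Nat.card_eq_fintype_card]
  omega

/-- general transport: the action of a simple group on the cosets of a proper subgroup of index `n`, moved to
`Fin n` with the trivial coset going to `0`. -/
theorem exists_perm_of_subgroup {G : Type*} [Group G] [Finite G] (hs : IsSimpleGroup G)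
    (A : Subgroup G) (n : ℕ) (hn : A.index = n) (hn1 : 1 < n) [NeZero n] :
    ∃ (H : Subgroup (Equiv.Perm (Fin n))) (_ : G ≃* H), IsPretransitive H (Fin n) ∧
      Nonempty (A ≃* stabilizer H (0 : Fin n)) := by
  classical
  have hcard : Nat.card (G ⧸ A) = n := by rw [← hn]; rfl
  -- an equivalence with `Fin n` sending the trivial coset to `0`
  obtain ⟨f0⟩ : Nonempty ((G ⧸ A) ≃ Fin n) := ⟨Finite.equivFinOfCardEq hcard⟩
  let f : (G ⧸ A) ≃ Fin n := f0.trans (Equiv.swap (f0 (QuotientGroup.mk 1)) 0)
  have hf1 : f (QuotientGroup.mk 1) = 0 := by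
    simp only [f, Equiv.trans_apply, Equiv.swap_apply_left]
  -- the homomorphism
  let ρ : G →* Equiv.Perm (Fin n) := (f.permCongrHom : Equiv.Perm (G ⧸ A) →* Equiv.Perm (Fin n)).comp
    (MulAction.toPermHom G (G ⧸ A))
  have hρ : ∀ (g : G) (x : G ⧸ A), ρ g (f x) = f (g • x) := by
    intro g x
    simp only [ρ, MonoidHom.coe_comp, Function.comp_apply]
    change (f.permCongr (MulAction.toPerm g)) (f x) = _
    rw [Equiv.permCongr_apply, Equiv.symm_apply_apply]
    rfl
  -- injectivity from simplicity
  have hinj : Function.Injective ρ := by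
    rw [← MonoidHom.ker_eq_bot_iff]
    rcases hs.eq_bot_or_eq_top_of_normal ρ.ker inferInstance with h | h
    · exact h
    · exfalso
      -- then every element fixes the trivial coset, so `A = ⊤` and the index is `1`
      have hA : A = ⊤ := by
        rw [eq_top_iff]
        intro g _
        have hg : g ∈ ρ.ker := by rw [h]; trivial
        rw [MonoidHom.mem_ker] at hg
        have h1 := hρ g (QuotientGroup.mk 1)
        rw [hg, Equiv.Perm.coe_one, id_eq] at h1
        have h2 := f.injective h1
        have h3 : (g • (QuotientGroup.mk 1 : G ⧸ A)) = QuotientGroup.mk g := by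
          rw [MulAction.Quotient.smul_mk, smul_eq_mul, mul_one]
        rw [h3] at h2
        have h4 := QuotientGroup.eq.mp h2
        simpa using h4
      rw [hA, Subgroup.index_top] at hn
      omega
  refine ⟨ρ.range, MonoidHom.ofInjective hinj, ?_, ?_⟩
  · -- transitivity
    refine ⟨fun i j => ?_⟩
    obtain ⟨g, hg⟩ := MulAction.exists_smul_eq G (f.symm i) (f.symm j)
    refine ⟨⟨ρ g, ⟨g, rfl⟩⟩, ?_⟩
    change ρ g i = j
    have := hρ g (f.symm i)
    rw [Equiv.apply_symm_apply, hg, Equiv.apply_symm_apply] at this
    exact this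
  · -- the stabiliser
    have hmem : ∀ g : G, ρ g 0 = 0 ↔ g ∈ A := by
      intro g
      have h1 := hρ g (QuotientGroup.mk 1)
      rw [hf1] at h1
      rw [h1, ← hf1, f.apply_eq_iff_eq]
      have h3 : (g • (QuotientGroup.mk 1 : G ⧸ A)) = QuotientGroup.mk g := by
        rw [MulAction.Quotient.smul_mk, smul_eq_mul, mul_one]
      rw [h3]
      constructor
      · intro h
        have h4 := QuotientGroup.eq.mp h
        simpa using h4
      · intro h
        apply QuotientGroup.eq.mpr
        simpa using h
    let φ : A →* stabilizer ρ.range (0 : Fin n) :=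
      { toFun := fun a => ⟨⟨ρ a, ⟨a, rfl⟩⟩, by
          rw [MulAction.mem_stabilizer_iff]
          exact (hmem a).mpr a.2⟩
        map_one' := by
          apply Subtype.ext; apply Subtype.ext
          simp
        map_mul' := by
          intro a b
          apply Subtype.ext; apply Subtype.ext
          simp }
    have hφi : Function.Injective φ := by
      intro a b hab
      have h1 : ρ a = ρ b := congrArg (fun s => ((s : stabilizer ρ.range (0 : Fin n)) : ρ.range).1) hab
      exact Subtype.ext (hinj h1)
    have hφs : Function.Surjective φ := by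
      rintro ⟨⟨s, ⟨g, rfl⟩⟩, hs0⟩
      rw [MulAction.mem_stabilizer_iff] at hs0
      have hg : g ∈ A := (hmem g).mp hs0
      exact ⟨⟨g, hg⟩, rfl⟩
    exact ⟨MulEquiv.ofBijective φ ⟨hφi, hφs⟩⟩

/-- **The permutation realisation on `1140000` points** from a subgroup isomorphic to `A₁₂`. -/
theorem perm_realization {G : Type*} [Group G] [Finite G] (hG : Cfsg.IsHN G) (A : Subgroup G)
    (hA : Nonempty (A ≃* alternatingGroup (Fin 12))) :
    ∃ H : Subgroup (Equiv.Perm (Fin 1140000)), Cfsg.IsHN H ∧
      MulAction.IsPretransitive H (Fin 1140000) ∧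
      Nonempty (MulAction.stabilizer H (0 : Fin 1140000) ≃* alternatingGroup (Fin 12)) := by
  obtain ⟨hs, hc⟩ := hG
  obtain ⟨eA⟩ := hA
  have hcA : Nat.card A = 239500800 := by rw [Nat.card_congr eA.toEquiv, card_alt12]
  have hidx : A.index = 1140000 := by
    have h := A.index_mul_card
    rw [hc, hcA] at h
    omega
  have : NeZero (1140000 : ℕ) := ⟨by norm_num⟩
  obtain ⟨H, e, htr, ⟨es⟩⟩ := exists_perm_of_subgroup hs A 1140000 hidx (by norm_num)
  refine ⟨H, ⟨?_, ?_⟩, htr, ⟨es.symm.trans eA⟩⟩
  · have := hs
    have : Nontrivial H := e.symm.toEquiv.nontrivial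
    exact IsSimpleGroup.isSimpleGroup_of_surjective e.toMonoidHom e.surjective
  · rw [← Nat.card_congr e.toEquiv, hc]

end Cfsg.Agent.Lib.Helper3.HN.PermReal
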