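import Cfsg.Agent.Lib.Helper3.HN.Index
import Cfsg.Agent.Lib.Helper21.HNTrans
import Cfsg.Agent.Lib.Helper21.HNGlue.Final
import Cfsg.Agent.Lib.Helper16.HSM.HSMain

set_option autoImplicit false
set_option maxRecDepth 100000
set_option linter.unusedVariables false
set_option linter.constructorNameAsVariable false

/-!
# The action of `Spor.HN` on 1539000 points: stabiliser, transitivity, core

The permutation representation of helper16, with the facts needed to use it: the value of a word is a walk in the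
table, the stabiliser of the point `0` is `N = ⟨x, y, z⟩`, the action is transitive, and no non-trivial normal
subgroup lies in `N`.
-/

namespace Cfsg.Agent.Lib.Helper3.HN.Stab

open Cfsg Cfsg.Agent.Lib.Helper3.Cover
open Cfsg.Agent.Lib.Helper28.TC2Upper Cfsg.Agent.Lib.Helper28.TC2Lower Cfsg.Agent.Lib.Helper28.TC2Glue
open Cfsg.Agent.Lib.Helper14.HNx Cfsg.Agent.Lib.Helper14.HNx.Main
open Cfsg.Agent.Lib.Helper3.HN Cfsg.Agent.Lib.Helper3.HN.HNRel
open Cfsg.Agent.Lib.Helper3.HN.NKit
open Cfsg.Agent.Lib.Helper3.HN.Index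

/-- abbreviation: the table of helper16 -/
noncomputable abbrev tb := Cfsg.Agent.Lib.Helper16.HNP.Table.table

theorem tb_pos : 0 < tb.n := by show 0 < 1539000; omega

/-- the base point -/
noncomputable def pt0 : Fin tb.n := ⟨0, tb_pos⟩

/-- the action with its properties: words act by walks, the stabiliser of `0` is `N`, transitivity -/
theorem action : ∃ φ : Spor.HN →* Equiv.Perm (Fin tb.n),
    (∀ w : Wd, (∀ c ∈ w, c < 7) → ∀ p : Fin tb.n, (φ (ev lt w) p).val = tb.walkT w.reverse p.val) ∧
    (∀ g, φ g pt0 = pt0 ↔ g ∈ N) ∧ (∀ p : Fin tb.n, ∃ g, φ g pt0 = p) := by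
  obtain ⟨φ, hφ⟩ := Cfsg.Agent.Lib.Helper16.HNP.Main.perm_rep
  have hn := tb_pos
  have hwalk : ∀ w : Wd, (∀ c ∈ w, c < 7) → ∀ p : Fin tb.n,
      (φ (ev lt w) p).val = tb.walkT w.reverse p.val := by
    intro w hw p
    rw [ev_eq_mk w hw, hφ, pathOf_toH w hw]
  have hfixgen := gensFix
  simp only [Bool.and_eq_true] at hfixgen
  obtain ⟨f0, f2, f4⟩ := hfixgen
  have hfix : ∀ g ∈ N, φ g pt0 = pt0 := by
    intro g hg
    have hle : N ≤ (MulAction.stabilizer (Equiv.Perm (Fin tb.n)) pt0).comap φ := by
      rw [N_eq_closure, Subgroup.closure_le]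
      intro s hs
      show φ s ∈ MulAction.stabilizer _ _
      rw [MulAction.mem_stabilizer_iff]
      apply Fin.ext
      rcases hs with rfl | rfl | rfl
      · have := hwalk [0] (by decide) pt0
        have e : ev lt [0] = HNRel.gx := by simp [ev, lt]
        rw [e] at this
        show (φ HNRel.gx pt0).val = 0
        rw [this]
        exact Nat.eq_of_beq_eq_true f0
      · have := hwalk [2] (by decide) pt0
        have e : ev lt [2] = HNRel.gy := by simp [ev, lt]
        rw [e] at this
        show (φ HNRel.gy pt0).val = 0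
        rw [this]
        exact Nat.eq_of_beq_eq_true f2
      · have := hwalk [4] (by decide) pt0
        have e : ev lt [4] = HNRel.gz := by simp [ev, lt]
        rw [e] at this
        show (φ HNRel.gz pt0).val = 0
        rw [this]
        exact Nat.eq_of_beq_eq_true f4
    exact MulAction.mem_stabilizer_iff.mp (hle hg)
  have hstab : ∀ g, φ g pt0 = pt0 → g ∈ N := by
    intro g hg
    obtain ⟨i, hi, a, ha, c, hc, rfl⟩ := all_double g
    rcases Nat.eq_zero_or_pos i with rfl | hpos
    · have e : r 0 = 1 := rfl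
      rw [e, mul_one]
      exact N.mul_mem ha hc
    · exfalso
      have h1 : φ (r i) pt0 = pt0 := by
        have e : r i = a⁻¹ * (a * r i * c) * c⁻¹ := by group
        rw [e, map_mul, map_mul, Equiv.Perm.mul_apply, Equiv.Perm.mul_apply,
          hfix _ (N.inv_mem hc), hg, hfix _ (N.inv_mem ha)]
      have h2 := hwalk (rootW i) (rootW_lt i) pt0
      have h3 := rootsMove
      rw [allLoop_eq_true] at h3
      have h4 := h3 (i - 1) (by omega)
      have e : Nat.succ (i - 1) = i := by omega
      rw [e] at h4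
      have h5 : (φ (r i) pt0).val = 0 := by rw [h1]; rfl
      unfold r at h5
      rw [h2] at h5
      simp only [Bool.not_eq_true', ] at h4
      have h6 : Nat.beq (tb.walkT (rootW i).reverse 0) 0 = true := by
        have : tb.walkT (rootW i).reverse 0 = 0 := h5
        rw [this]
        rfl
      rw [h6] at h4
      exact Bool.noConfusion h4
  have htr : ∀ p : Fin tb.n, ∃ g, φ g pt0 = p := by
    intro p
    obtain ⟨w, hw, hp⟩ := Cfsg.Agent.Lib.Helper21.HNTrans.trans p.val p.2
    refine ⟨ev lt w.reverse, ?_⟩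
    apply Fin.ext
    rw [hwalk w.reverse (fun c hc => hw c (List.mem_reverse.mp hc)), List.reverse_reverse]
    exact hp
  exact ⟨φ, hwalk, fun g => ⟨hstab g, hfix g⟩, htr⟩

theorem walk_xx1 : tb.walkT [0, 0] 1 = 4 := by decide +kernel

/-- no non-trivial normal subgroup of `Spor.HN` lies in `N` -/
theorem core_free : ∀ M : Subgroup Spor.HN, M.Normal → M ≤ N → M = ⊥ := by
  obtain ⟨φ, hwalk, hst, htr⟩ := action
  have h1 : (1 : ℕ) < tb.n := by show 1 < 1539000; omega
  refine Cfsg.Agent.Lib.Helper21.HNGlue.core_free_of_perm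
    Cfsg.Agent.Lib.Helper16.HSM.HSMain.schur_HS Cfsg.Agent.Lib.Helper16.HNP.Main.x_sq_ne_one φ pt0 htr
    (fun g hg => (hst g).mpr hg) ⟨⟨1, h1⟩, ?_⟩
  intro h
  have h2 := hwalk [0, 0] (by decide) ⟨1, h1⟩
  have e : ev lt [0, 0] = (PresentedGroup.mk HNrels Cfsg.Spor.HN.x) ^ 2 := by
    simp [ev, lt, pow_two]
    rfl
  rw [e, h] at h2
  have h3 : tb.walkT [0, 0] 1 = 4 := walk_xx1
  simp only [List.reverse_cons, List.reverse_nil, List.nil_append, List.cons_append] at h2
  rw [h3] at h2
  exact absurd h2 (by decide)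

end Cfsg.Agent.Lib.Helper3.HN.Stab
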